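import Groth.Agent.AlgStBasic.PropDescend
import Groth.Agent.AlgSpBasic.LocPInst

/-!
# Representable properties read locally on a test scheme, and pullback squares of slices
-/

set_option autoImplicit false
set_option backward.isDefEq.respectTransparency false
set_option backward.isDefEq.respectTransparency.types false

universe u

open CategoryTheory CategoryTheory.Limits AlgebraicGeometry Opposite
open Groth.StkBase Groth.AlgSpBasic Groth.AlgStBasic

namespace Groth.StkGerb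

variable {S : Scheme.{u}} {P : MorphismProperty (AlgSp.Sp S)} {𝒳 𝒴 : AlgSt.Cat S}

/-- A property of the base change to one test scheme, read on a covering of it. -/
theorem repFst_of_locally
    (hb : StableBaseChange P) (hP : AlgSp.IsLocalOnBase AlgSp.IsFppfCover P)
    {f : 𝒳 ⥤ᵇ 𝒴} (hf : AlgSt.RepByAlgSp1 f) {U : Over S} (y : FibCat.overCat U ⥤ᵇ 𝒴)
    {R : Sieve U} (hR : R ∈ AlgSp.J S U)
    (hR' : ∀ ⦃V : Over S⦄ (h : V ⟶ U), R.arrows h →
      RepFst P (FibCat.fpFst (BasedFunctor.comp (AlgSt.overMap h) y) f)) :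
    RepFst P (FibCat.fpFst y f) := by
  obtain ⟨F, e, he⟩ := hf U y
  refine ⟨F, e, he, ?_⟩
  let π := AlgSt.spMapOfOver (BasedFunctor.comp e (FibCat.fpFst y f))
  obtain ⟨V, i, hi, hcov⟩ := exists_fppfCover_of_mem hR
  have := hb.respectsIso
  have key : ∀ x, RepFst (onSpaces P)
      (FibCat.fpFst (overMapOf ((AlgSp.pyon S).map (i x))) (Stk.ofPshMap π.hom)) := by
    intro x
    let M := AlgSt.overMap (i x)
    let T := AlgSt.toOverCat U
    let ξ := overMapOf ((AlgSp.pyon S).map (i x))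
    have hy : RepFst (onSpaces P) (FibCat.fpFst (BasedFunctor.comp M y) f) :=
      RepFst.mono (fun _ _ _ hA hB hp => ⟨hA, hB, hp⟩) (hR' (i x) (hi x))
    have hT := isEquivOver_toOverCat U
    have := full_of_isEquivOver hT
    have := faithful_of_isEquivOver hT
    obtain ⟨β⟩ := nonempty_iso_pshMapOf
      (BasedFunctor.comp (BasedFunctor.comp e (FibCat.fpFst y f)) (AlgSt.ofOverCat U))
    have γ : BasedFunctor.comp (Stk.ofPshMap π.hom) T
        ≅ BasedFunctor.comp e (FibCat.fpFst y f) := by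
      have γ' : Stk.ofPshMap π.hom
          ≅ BasedFunctor.comp (BasedFunctor.comp e (FibCat.fpFst y f)) (AlgSt.ofOverCat U) :=
        (eqToIso (congrArg Stk.ofPshMap (spMapOfOver_hom_eq _))).trans β.symm
      exact whiskerRightIso γ' T
    obtain ⟨δ⟩ := nonempty_overMapOf_iso (i x)
    have hE : FibCat.IsEquivOver (BasedFunctor.comp (fpPost ξ (Stk.ofPshMap π.hom) T)
        (BasedFunctor.comp (fpCongr δ γ)
          (BasedFunctor.comp (fpPre (BasedFunctor.id _) e M (FibCat.fpFst y f)) (fpPaste M y f)))) :=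
      isEquivOver_comp (isEquivOver_fpPost ξ _ T) (isEquivOver_comp (isEquivOver_fpCongr δ γ)
        (isEquivOver_comp (isEquivOver_fpPre (isEquivOver_id _) he _ _) (isEquivOver_fpPaste M y f)))
    obtain ⟨E', hE', -, ⟨b⟩⟩ := isEquivOver_symm hE
    exact RepFst.of_equiv hE' (whiskerRightIso b (FibCat.fpFst _ _)) hy
  have hsh : ∀ x, AlgSp.IsAlgSpace (pullback π ((AlgSp.yon S).map (i x))) := fun x =>
    isAlgSpace_of_isPullback (IsPullback.of_hasPullback _ _) (AlgSp.IsAlgSpace.yon_obj U).diag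
      F.property (AlgSp.IsAlgSpace.yon_obj (V x))
  refine (hP (fun x => (AlgSp.yon S).obj (V x)) (fun x => (AlgSp.yon S).map (i x))
    (AlgSp.IsAlgSpace.yon_obj U) (fun x => AlgSp.IsAlgSpace.yon_obj _) hcov π F.property
    (fun x => pullback π ((AlgSp.yon S).map (i x))) (fun x => pullback.snd _ _)
    (fun x => pullback.fst _ _) hsh (fun x => IsPullback.of_hasPullback _ _)).2 fun x => ?_
  exact (prop_snd_of_repFst
    ((IsPullback.of_hasPullback π ((AlgSp.yon S).map (i x))).map (sheafToPresheaf (AlgSp.J S) (Type (u + 1))))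
    (pullback π ((AlgSp.yon S).map (i x))).property (key x)).2.2

/-- A pullback square gives the fibre product of slices. -/
theorem exists_equiv_fp_overMap {W₀ V₀ W V : Over S} {k₁ : W₀ ⟶ V₀} {k₂ : W₀ ⟶ W} {j : V₀ ⟶ V}
    {d : W ⟶ V} (sq : IsPullback k₁ k₂ j d) :
    ∃ Λ : FibCat.overCat W₀ ⥤ᵇ FibCat.fp (AlgSt.overMap j) (AlgSt.overMap d),
      FibCat.IsEquivOver Λ ∧ BasedFunctor.comp Λ (FibCat.fpFst _ _) = AlgSt.overMap k₁ := by
  have hw : ∀ g : (FibCat.overCat W₀).obj, (g.hom ≫ k₁) ≫ j = (g.hom ≫ k₂) ≫ d := fun g => by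
    rw [Category.assoc, Category.assoc, sq.w]
  let γ : BasedFunctor.comp (AlgSt.overMap k₁) (AlgSt.overMap j) ≅
      BasedFunctor.comp (AlgSt.overMap k₂) (AlgSt.overMap d : FibCat.overCat W ⥤ᵇ _) :=
    isoMk (fun g => Over.isoMk (Iso.refl g.left)
        (by show 𝟙 g.left ≫ (g.hom ≫ k₂) ≫ d = (g.hom ≫ k₁) ≫ j; rw [Category.id_comp, hw]))
      (fun φ => Over.OverMorphism.ext ((Category.comp_id _).trans (Category.id_comp _).symm))
      (fun g => ⟨rfl, rfl⟩)
  refine ⟨FibCat.fpLift (AlgSt.overMap k₁) (AlgSt.overMap k₂) γ, ?_, rfl⟩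
  refine isEquivOver_of_fullyFaithful _ ⟨fun {g g'} φ => ?_⟩ ⟨fun {g g'} a b e => ?_⟩ (fun p => ?_)
  · have hs : φ.hom.snd.left = φ.hom.fst.left := by
      have := fp_map_snd φ
      simp at this; exact this
    have h₁ : φ.hom.fst.left ≫ g'.hom ≫ k₁ = g.hom ≫ k₁ := Over.w φ.hom.fst
    have h₂ : φ.hom.fst.left ≫ g'.hom ≫ k₂ = g.hom ≫ k₂ := hs ▸ Over.w φ.hom.snd
    exact ⟨Over.homMk φ.hom.fst.left (sq.hom_ext (by rw [Category.assoc, h₁]) (by rw [Category.assoc, h₂])),
      fp_hom_ext (Over.OverMorphism.ext rfl) (Over.OverMorphism.ext hs.symm)⟩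
  · exact Over.OverMorphism.ext (congrArg (fun t => t.hom.fst.left) e)
  · have hb : p.obj.snd.left = p.obj.fst.left := fp_p_snd p
    let i := p.obj.iso
    have hi : i.hom.left = eqToHom hb.symm := (fp_isVert p).map_eq
    have hwi : i.hom.left ≫ p.obj.snd.hom ≫ d = p.obj.fst.hom ≫ j := Over.w i.hom
    let l := sq.lift p.obj.fst.hom (eqToHom hb.symm ≫ p.obj.snd.hom)
      (by rw [← hwi, hi, Category.assoc])
    refine ⟨Over.mk l, fpObjIso (Over.isoMk (Iso.refl _) ?_) (Over.isoMk (eqToIso hb.symm) ?_) ?_, rfl, rfl⟩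
    · show 𝟙 _ ≫ p.obj.fst.hom = l ≫ k₁
      rw [Category.id_comp, sq.lift_fst]
    · show eqToHom hb.symm ≫ p.obj.snd.hom = l ≫ k₂
      rw [sq.lift_snd]
    · apply Over.OverMorphism.ext
      show 𝟙 _ ≫ i.hom.left = 𝟙 _ ≫ eqToHom hb.symm
      rw [hi]; rfl

end Groth.StkGerb
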