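import Groth.Agent.StkGerb.Rigid.Main
import Groth.Agent.ResGerbe.OnePoint
import Groth.Agent.AlgStBasic.Inertia
import Groth.Agent.S16806
import Groth.Agent.S16860

/-!
# Reduced, locally Noetherian algebraic stacks with one point are gerbes
-/

set_option autoImplicit false
set_option backward.isDefEq.respectTransparency false
set_option backward.isDefEq.respectTransparency.types false

universe u

open CategoryTheory AlgebraicGeometry
open Groth.StkBase Groth.AlgStBasic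

namespace Groth.StkGerb

variable {S : Scheme.{u}} {𝒲 : AlgSt.Cat S}

/-- Over a locally Noetherian scheme, locally of finite type is locally of finite presentation. -/
theorem locQ_lfp_of_lft {T : Over S} [IsLocallyNoetherian T.left]
    {f : 𝒲 ⥤ᵇ FibCat.overCat T}
    (h : AlgSt.LocQ (AlgSp.LocP (S := S) @LocallyOfFiniteType) f) :
    AlgSt.LocQ (AlgSp.LocP (S := S) @LocallyOfFinitePresentation) f := by
  obtain ⟨U, V, x, y, a, β, hx, hxs, hy, ha⟩ := h
  obtain ⟨c, ⟨γ⟩⟩ := exists_overMap_iso y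
  have : Smooth c.left := left_prop_of_repWith_overMap (P := @Smooth) (repWith_of_iso γ hy)
  have : IsLocallyNoetherian V.left := LocallyOfFiniteType.isLocallyNoetherian c.left
  have : LocallyOfFiniteType a.left := left_prop_of_locP_yon ha
  exact ⟨U, V, x, y, a, β, hx, hxs, hy,
    locP_yon_of_left (LocallyOfFinitePresentation.iff_locallyOfFiniteType.2 this)⟩

variable {𝒵 : AlgSt.Cat S}

/-- The inertia of a stack with an fppf cover by the spectrum of a field is flat and locally of finite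
presentation. -/
theorem isFL_inertia_of_fieldPt (h𝒵 : AlgSt.IsAlgStack Scheme.fppfPrecoverage 𝒵) {k : Type u} [Field k]
    {a : Spec (CommRingCat.of k) ⟶ S} {z : FibCat.overCat (Over.mk a) ⥤ᵇ 𝒵}
    (hfp : AlgSt.RepByAlgSpWith (AlgSp.LocP @LocallyOfFinitePresentation) z)
    (hs : AlgSt.RepByAlgSpWith AlgSp.IsSurjectiveMor z) (hf : AlgSt.RepByAlgSpWith (AlgSp.LocP @Flat) z) :
    IsFL (FibCat.inertiaToBase (FibCat.toSelf 𝒵)) := by
  have hK := isAlgStack_overCat (Over.mk a)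
  have hI := isAlgStack_inertia h𝒵
  let I := FibCat.inertiaToBase (FibCat.toSelf 𝒵)
  have hP := isAlgStack_fp h𝒵.isStack h𝒵.diag hK hI z I
  have hzs : AlgSt.IsSurjective z :=
    (isSurjective_iff_repWith (isFibGrpd_overCat _) h𝒵.isStack.1
      (Groth.ResGerbe.repByAlgSp1_chart h𝒵 z)).2 hs
  obtain ⟨h₁, h₂⟩ := isFL_of_repWith hK h𝒵 hf hfp
  have hlft : AlgSt.LocQ (AlgSp.LocP (S := S) @LocallyOfFiniteType) (FibCat.fpFst z I) :=
    locQ_of_repWith stableBaseChange_locP descendsAlongAtlas_locP isSmoothLocalST_lft hP hK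
      (repWith_fpFst _ _ (repWith_inertiaToBase _ (repWith_lft_diag_toSelf h𝒵)))
  have : IsLocallyNoetherian (Over.mk a).left :=
    inferInstanceAs (IsLocallyNoetherian (Spec (CommRingCat.of k)))
  exact ⟨locQ_of_fpFst_fppf isSmoothLocalST_flat (isLocalOnBase_fppf_locP _) hI h𝒵 hK h₁ h₂ hzs
      (Groth.ResGerbe.locQ_flat_to_field hP _),
    locQ_of_fpFst_fppf isSmoothLocalST_lfp (isLocalOnBase_fppf_locP _) hI h𝒵 hK h₁ h₂ hzs
      (locQ_lfp_of_lft hlft)⟩

/-- An etale atlas of an algebraic space as a smooth chart of its stack. -/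
theorem repWith_overMapOf_smooth {Z : AlgSp.Sp S} (hZ : AlgSp.IsAlgSpace Z) {U : Over S}
    {q : (AlgSp.yon S).obj U ⟶ Z} (hq : AlgSp.RepWith @Etale q) :
    AlgSt.RepByAlgSpWith (AlgSp.LocP @Smooth) (overMapOf q.hom) := by
  refine (repWith_precomp_equiv (isEquivOver_ofOverCat U) _).2 ?_
  refine repWith_ofPshMap_of_stable (F := ⟨_, AlgSp.IsAlgSpace.yon_obj U⟩) (G := ⟨Z, hZ⟩)
    stableBaseChange_locP q ?_
  exact Groth.AlgSpBasic.locP_of_repWith
    (Groth.AlgSpBasic.repWith_mono (fun _ _ f (h : Etale f) => (inferInstance : Smooth f)) hq)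

theorem exists_gerbe_singleton (h𝒵 : AlgSt.IsAlgStack Scheme.fppfPrecoverage 𝒵)
    (hred : AlgSt.SmoothLocally (fun T => IsReduced T) 𝒵)
    (hnoeth : AlgSt.SmoothLocally (fun T => IsLocallyNoetherian T) 𝒵)
    (hne : Nonempty (AlgSt.Points 𝒵)) (hsub : Subsingleton (AlgSt.Points 𝒵)) :
    ∃ (Z : AlgSp.Space S) (π : 𝒵 ⥤ᵇ AlgSt.ofSp Z.obj),
      Gerb.IsGerbeOver (QuotSh.J Scheme.fppfPrecoverage S) π ∧
        AlgSp.EtaleLocally (fun T => IsReduced T) Z.obj ∧ AlgSp.IsLocNoethSp Z.obj ∧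
        Nonempty (AlgSp.Points Z.obj) ∧ Subsingleton (AlgSp.Points Z.obj) := by
  obtain ⟨k, _, a, z, hfp, hs, hf⟩ :=
    (Groth.Agent.S16806.result S 𝒵 h𝒵).1 ⟨hred, hnoeth, hne, hsub⟩
  obtain ⟨Z, π, hπ⟩ := isAlgGerbe_of_isFL_inertia h𝒵 (isFL_inertia_of_fieldPt h𝒵 hfp hs hf)
  have hZ : AlgSt.IsAlgStack Scheme.fppfPrecoverage (AlgSt.ofSp Z.obj) := isAlgStack_ofSp Z.property
  obtain ⟨⟨hπs, hπf, hπp⟩, -⟩ := (Groth.Agent.S16860.result S 𝒵 _ h𝒵 hZ π).1 hπ
  have hsubZ : Subsingleton (AlgSt.Points (AlgSt.ofSp Z.obj)) := ⟨fun p q => by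
    obtain ⟨p', hp⟩ := hπs p
    obtain ⟨q', hq⟩ := hπs q
    rw [← hp, ← hq, Subsingleton.elim p' q']⟩
  obtain ⟨p⟩ := hne
  let w := BasedFunctor.comp z π
  have hw : IsFL w := (isFL_of_repWith (isAlgStack_overCat _) h𝒵 hf hfp).comp (isAlgStack_overCat _)
    h𝒵 hZ ⟨hπf, hπp⟩
  have hwr := Groth.ResGerbe.repByAlgSp1_chart hZ w
  obtain ⟨hwf, hwp⟩ := hw.repWith (isAlgStack_overCat _) hZ hwr
  have hws := Groth.ResGerbe.surjective_of_subsingleton hZ w
  obtain ⟨U, q, hqe, hqs⟩ := Z.property.atlas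
  have hq := repWith_overMapOf_smooth Z.property hqe
  refine ⟨Z, π, hπ, ⟨U, q, hqe, hqs, Groth.ResGerbe.smoothLocally_isReduced hZ hws hwf U _ hq⟩,
    ⟨U, q, hqe, hqs, Groth.ResGerbe.smoothLocally_isLocallyNoetherian hZ hws hwf hwp U _ hq⟩,
    ⟨(bijective_spPt.2 (AlgSt.Points.map π p)).choose⟩,
    ⟨fun s t => bijective_spPt.1 (Subsingleton.elim _ _)⟩⟩

end Groth.StkGerb
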