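import Groth.Agent.StkGerb.Rigid.InertiaSpace
import Groth.Agent.AlgSpFppf.QuotSpace
import Groth.Agent.FppfBoot.Bootstrap
import Groth.Agent.AlgSp2.FppfSource
import Groth.Agent.AlgSp3.ShriekEquiv

/-!
# The sheaf under a stack with flat, locally finitely presented inertia is an algebraic space
-/

set_option autoImplicit false
set_option backward.isDefEq.respectTransparency false
set_option backward.isDefEq.respectTransparency.types false

universe u

open CategoryTheory CategoryTheory.Limits AlgebraicGeometry Opposite AlgSp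
open Groth.StkBase Groth.AlgStBasic Groth.AlgSpBasic Groth.AlgSpFppf

noncomputable section

namespace Groth.StkGerb

variable {S : Scheme.{u}} {𝒳 : AlgSt.Cat S} {Z : Sp S} {U : Over S}

/-- Sections of a fibre product are determined by their components. -/
theorem sec_ext {P A B C : Sp S} {fst : P ⟶ A} {snd : P ⟶ B} {f : A ⟶ C} {g : B ⟶ C}
    (sq : IsPullback fst snd f g) {V : Over S} {y y' : P.obj.obj (op V)}
    (h₁ : fst.hom.app (op V) y = fst.hom.app (op V) y')
    (h₂ : snd.hom.app (op V) y = snd.hom.app (op V) y') : y = y' := by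
  apply yEquiv.symm.injective
  apply sq.hom_ext <;>
  · apply yEquiv.injective
    refine ((AlgSp.J S).uliftYonedaEquiv_comp _ _).trans (Eq.trans ?_ ((AlgSp.J S).uliftYonedaEquiv_comp _ _).symm)
    rw [Equiv.apply_symm_apply, Equiv.apply_symm_apply]
    assumption

/-- The map to the sheaf under a stack given by a chart. -/
abbrev chartMap (π : 𝒳 ⥤ᵇ AlgSt.ofSp Z) (x : FibCat.overCat U ⥤ᵇ 𝒳) : (yon S).obj U ⟶ Z :=
  mapOf (BasedFunctor.comp (AlgSt.toOverCat U) (BasedFunctor.comp x π))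

theorem chartMap_app (π : 𝒳 ⥤ᵇ AlgSt.ofSp Z) (x : FibCat.overCat U ⥤ᵇ 𝒳) {V : Over S} (k : V ⟶ U) :
    (chartMap π x).hom.app (op V) ⟨k⟩ =
      AlgSt.fibSec (BasedFunctor.comp x π) (⟨Over.mk k, rfl⟩ : (FibCat.overCat U : AlgSt.Cat S).p.Fiber V) :=
  rfl

theorem isLocallySurjective_chartMap (hX : FibCat.IsFibGrpd 𝒳.p) {π : 𝒳 ⥤ᵇ AlgSt.ofSp Z}
    (hπ : Gerb.LocSurjObj (AlgSp.J S) π) {x : FibCat.overCat U ⥤ᵇ 𝒳}
    (hx : AlgSt.RepByAlgSpWith (LocP @Smooth) x) (hxs : AlgSt.RepByAlgSpWith IsSurjectiveMor x) :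
    Sheaf.IsLocallySurjective (chartMap π x) := by
  constructor
  intro V s
  obtain ⟨R, hR, hR'⟩ := hπ ⟨V, s⟩
  refine (AlgSp.J S).transitive hR _ fun V' f hf => ?_
  obtain ⟨o, g, hg⟩ := hR' f hf
  obtain ⟨h₁, h₂, eg⟩ := (isHomLift_iff_eqToHom _ _).1 hg
  have ho : 𝒳.p.obj o = V' := (π.w_obj o).symm.trans h₁
  let σ := overFunctor hX o ho
  obtain ⟨W, c, b, hc, hcs, ⟨α⟩⟩ := exists_smooth_cover_lift hx hxs σ
  obtain ⟨i₀, hi₀⟩ := overFunctor_eval hX o ho
  obtain ⟨ω, hω⟩ := isVert_mk_iso (S := S) (show 𝟙 W ≫ b = b from Category.id_comp b)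
  let θ : x.obj (Over.mk b) ⟶ o := x.map ω.inv ≫ (isoApp α (idObj W)).hom ≫
    σ.map (toId ((Over.map c).obj (idObj W))) ≫ i₀.hom
  have hW : 𝒳.p.obj (x.obj (Over.mk b)) = W := x.w_obj _
  have hθ : 𝒳.p.map θ = eqToHom hW ≫ c ≫ eqToHom ho.symm := by
    have e1 : 𝒳.p.map (x.map ω.inv) = eqToHom _ := (isVert_map hω.inv).map_eq
    have e2 : 𝒳.p.map (isoApp α (idObj W)).hom = eqToHom _ := (isVert_isoApp α (idObj W)).map_eq
    have e3 : 𝒳.p.map (σ.map (toId ((Over.map c).obj (idObj W)))) = _ := overPostMapHom_p c σ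
    simp only [θ, Functor.map_comp, e1, e2, e3, hi₀.map_eq]
    simp
  refine mem_of_fppf c ⟨⟨b⟩, ?_⟩
  rw [chartMap_app]
  refine (sec_eq_of_lift (π.map θ ≫ g) (c ≫ f) ((π.w_obj _).trans hW) h₂ ?_).trans ?_
  · show (π.map θ).hom ≫ g.hom = _
    have e4 := map_map π θ
    have eg' : g.hom = _ := eg
    rw [show (π.map θ).hom = _ from e4, hθ, eg']
    simp
  · exact congrArg (Z.obj.map (c ≫ f).op) (map_op_id Z.obj _ rfl s)

/-- The algebraic space under a stack that is a gerbe over a sheaf, its inertia being flat and locally of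
finite presentation. -/
theorem isAlgSpace_of_isGerbeOver (h𝒳 : AlgSt.IsAlgStack Scheme.fppfPrecoverage 𝒳)
    (hI : IsFL (FibCat.inertiaToBase (FibCat.toSelf 𝒳))) (π : 𝒳 ⥤ᵇ AlgSt.ofSp Z)
    (hπ : Gerb.IsGerbeOver (AlgSp.J S) π) : IsAlgSpace Z := by
  have hX : FibCat.IsFibGrpd 𝒳.p := h𝒳.isStack.1
  obtain ⟨U, x, hx, hxs⟩ := h𝒳.atlas
  let p := chartMap π x
  have hp : Sheaf.IsLocallySurjective p := isLocallySurjective_chartMap hX hπ.1 hx hxs
  obtain ⟨F, e, he⟩ := repWith_repByAlgSp1 hx U x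
  let A := pairMapFst e
  let B := pairMapSnd e
  have w : A ≫ p = B ≫ p := by
    apply Sheaf.hom_ext
    ext V q
    obtain ⟨i, hi, -⟩ := exists_pair_iso
      (fibMap e ⟨⟨V.unop, q⟩, rfl⟩ : (FibCat.fp x x).p.Fiber V.unop) rfl rfl
    show p.hom.app (op V.unop) (A.hom.app (op V.unop) q) = p.hom.app (op V.unop) (B.hom.app (op V.unop) q)
    rw [pairMapFst_app, pairMapSnd_app, chartMap_app, chartMap_app]
    exact fibSec_eq_of_vert (π := BasedFunctor.comp x π) (π' := BasedFunctor.comp x π)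
      (π.map i.hom) (isVert_map hi)
  let R := pullback p p
  let m : F.obj ⟶ R := pullback.lift A B w
  have hm₁ : m ≫ pullback.fst p p = A := pullback.lift_fst _ _ _
  have hm₂ : m ≫ pullback.snd p p = B := pullback.lift_snd _ _ _
  have sqR := IsPullback.of_hasPullback p p
  have hms : Sheaf.IsLocallySurjective m := by
    constructor
    intro V y
    obtain ⟨k₁, hk₁⟩ : ∃ k : V ⟶ U, (pullback.fst p p).hom.app (op V) y = ⟨k⟩ := ⟨_, rfl⟩
    obtain ⟨k₂, hk₂⟩ : ∃ k : V ⟶ U, (pullback.snd p p).hom.app (op V) y = ⟨k⟩ := ⟨_, rfl⟩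
    have hcond : p.hom.app (op V) ⟨k₁⟩ = p.hom.app (op V) ⟨k₂⟩ := by
      rw [← hk₁, ← hk₂]
      exact congrFun (congrArg (fun φ : R ⟶ Z => ⇑(ConcreteCategory.hom (φ.hom.app (op V))))
        pullback.condition) y
    rw [chartMap_app, chartMap_app] at hcond
    have e₁ : 𝒳.p.obj (x.obj (Over.mk k₁)) = V := x.w_obj _
    have e₂ : 𝒳.p.obj (x.obj (Over.mk k₂)) = V := x.w_obj _
    obtain ⟨b, hb⟩ := exists_hom_of_sec_eq (A := π.obj (x.obj (Over.mk k₁)))
      (B := π.obj (x.obj (Over.mk k₂))) ((π.w_obj _).trans e₁) ((π.w_obj _).trans e₂) hcond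
    obtain ⟨R', hR', hloc⟩ := hπ.2 _ _ b (hb.isHomLift (π.w_obj _))
    refine GrothendieckTopology.superset_covering _ ?_
      ((AlgSp.J S).pullback_stable (eqToHom e₁.symm) hR')
    intro V' j hj
    obtain ⟨x₀, φ, ψ, hφ, hψ, -⟩ := hloc _ hj
    obtain ⟨h₀, hφt, eφ⟩ := (isHomLift_iff_eqToHom _ _).1 hφ
    obtain ⟨hψs, hψt, eψ⟩ := (isHomLift_iff_eqToHom _ _).1 hψ
    have f₁ : 𝒳.p.obj (x.obj (Over.mk (j ≫ k₁))) = V' := x.w_obj _
    have f₂ : 𝒳.p.obj (x.obj (Over.mk (j ≫ k₂))) = V' := x.w_obj _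
    let φ' : x.obj (Over.mk (j ≫ k₁)) ⟶ x.obj (Over.mk k₁) := x.map (Over.homMk j rfl)
    let ψ' : x.obj (Over.mk (j ≫ k₂)) ⟶ x.obj (Over.mk k₂) := x.map (Over.homMk j rfl)
    obtain ⟨i₁, hi₁, -⟩ := exists_vert_iso_of_lifts hX φ' φ (f₁.trans h₀.symm)
      (by simp [φ', map_map, overCat_map, eφ])
    obtain ⟨i₂, hi₂, -⟩ := exists_vert_iso_of_lifts hX ψ ψ' (h₀.trans f₂.symm)
      (by simp [ψ', map_map, overCat_map, eψ])
    obtain ⟨q, hq₁, hq₂⟩ := exists_sec_of_iso he (i₁ ≪≫ i₂) (hi₁.comp hi₂)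
    refine ⟨q, sec_ext sqR ?_ ?_⟩
    · show (m ≫ pullback.fst p p).hom.app (op V') q = _
      rw [hm₁, show (pullback.fst p p).hom.app (op V') (R.obj.map j.op y) =
        ((yon S).obj U).obj.map j.op ((pullback.fst p p).hom.app (op V) y) from
        NatTrans.naturality_apply (pullback.fst p p).hom j.op y, hk₁]
      exact hq₁
    · show (m ≫ pullback.snd p p).hom.app (op V') q = _
      rw [hm₂, show (pullback.snd p p).hom.app (op V') (R.obj.map j.op y) =
        ((yon S).obj U).obj.map j.op ((pullback.snd p p).hom.app (op V) y) from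
        NatTrans.naturality_apply (pullback.snd p p).hom j.op y, hk₂]
      exact hq₂
  have hU : IsAlgSpace ((yon S).obj U) := IsAlgSpace.yon_obj U
  have hF : IsAlgSpace F.obj := F.property
  have hm : RepBySpWith (FppfMor S) m.hom := by
    refine repBySpWith_of_local m fun T a P fst snd sqP => ?_
    let q₀ : F.obj.obj.obj (op T) := yEquiv a
    obtain ⟨a', ha'⟩ : ∃ a' : T ⟶ U, A.hom.app (op T) q₀ = ⟨a'⟩ := ⟨_, rfl⟩
    obtain ⟨b', hb'⟩ : ∃ b' : T ⟶ U, B.hom.app (op T) q₀ = ⟨b'⟩ := ⟨_, rfl⟩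
    have hA : a ≫ A = (yon S).map a' := by
      apply yEquiv.injective
      refine ((AlgSp.J S).uliftYonedaEquiv_comp a A).trans (ha'.trans ?_)
      exact congrArg ULift.up (Category.id_comp a').symm
    have hB : a ≫ B = (yon S).map b' := by
      apply yEquiv.injective
      refine ((AlgSp.J S).uliftYonedaEquiv_comp a B).trans (hb'.trans ?_)
      exact congrArg ULift.up (Category.id_comp b').symm
    obtain ⟨i, hi, -⟩ := exists_pair_iso
      (fibMap e ⟨⟨T, q₀⟩, rfl⟩ : (FibCat.fp x x).p.Fiber T)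
      (congrArg ULift.down ha') (congrArg ULift.down hb')
    obtain ⟨G, γ, c, hG, hcfl, hcfp, hγA, hγB, hlift⟩ := exists_inertia_space h𝒳 hI he a' b' i hi
    have wA : fst ≫ A = snd ≫ (yon S).map a' := by
      rw [← hA, ← hm₁, reassoc_of% sqP.w]
    have wB : fst ≫ B = snd ≫ (yon S).map b' := by
      rw [← hB, ← hm₂, reassoc_of% sqP.w]
    have hw : γ ≫ m = c ≫ a ≫ m := by
      apply pullback.hom_ext
      · simp only [Category.assoc, hm₁, hA, hγA, A]
      · simp only [Category.assoc, hm₂, hB, hγB, B]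
    let l := sqP.lift γ c hw
    have hl₁ : l ≫ fst = γ := sqP.lift_fst _ _ _
    have hl₂ : l ≫ snd = c := sqP.lift_snd _ _ _
    have hls : Sheaf.IsLocallySurjective l := by
      constructor
      intro V y
      refine GrothendieckTopology.superset_covering _ ?_ ((AlgSp.J S).top_mem V)
      intro V' j _
      let y' := P.obj.map j.op y
      let k : V' ⟶ T := (snd.hom.app (op V') y').down
      obtain ⟨t, ht₁, ht₂⟩ := hlift V' (fst.hom.app (op V') y') k
        (congrFun (congrArg (fun φ : P ⟶ (yon S).obj U => ⇑(ConcreteCategory.hom (φ.hom.app (op V')))) wA) y')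
        (congrFun (congrArg (fun φ : P ⟶ (yon S).obj U => ⇑(ConcreteCategory.hom (φ.hom.app (op V')))) wB) y')
      refine ⟨t, sec_ext sqP ?_ ?_⟩
      · show (l ≫ fst).hom.app (op V') t = _
        rw [hl₁]; exact ht₁
      · show (l ≫ snd).hom.app (op V') t = _
        rw [hl₂]; exact ht₂
    have sqU : IsPullback fst snd (prod.lift A B) (a ≫ prod.lift A B) := by
      refine IsPullback.mk' (Limits.prod.hom_ext ?_ ?_) (fun _ φ φ' h₁ h₂ => sqP.hom_ext h₁ h₂)
        (fun _ u v huv => ?_)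
      · simpa [hA] using wA
      · simpa [hB] using wB
      · have e₁ := huv =≫ prod.fst
        have e₂ := huv =≫ prod.snd
        simp only [Category.assoc, prod.lift_fst, prod.lift_snd] at e₁ e₂
        refine ⟨sqP.lift u v (pullback.hom_ext ?_ ?_), sqP.lift_fst _ _ _, sqP.lift_snd _ _ _⟩
        · simpa only [Category.assoc, hm₁] using e₁
        · simpa only [Category.assoc, hm₂] using e₂
    have hT : IsAlgSpace ((yon S).obj T) := IsAlgSpace.yon_obj T
    have hP : IsAlgSpace P :=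
      isAlgSpace_of_isPullback sqU (Groth.AlgSp3.isAlgSpace_prod hU hU).diag hF hT
    obtain ⟨hflat, -, hlfp⟩ := Groth.AlgSp2.locP_flat_lft_lfp_of_comp hG hP hT l snd hls
    refine ⟨hP, ⟨fun z => ⟨Points.map (sqP.lift a (𝟙 _) (by simp)) z, ?_⟩, hflat (hl₂ ▸ hcfl)⟩,
      hlfp (hl₂ ▸ hcfp)⟩
    rw [← Points.map_comp, sqP.lift_snd, Points.map_id]
  have hR : IsAlgSpace R := Groth.FppfBoot.isAlgSpace_of_fppf_cover (X := F) hm
  have hAfl : LocP @Flat A ∧ LocP @LocallyOfFinitePresentation A := by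
    have h : A = AlgSt.spMapOfOver (BasedFunctor.comp e (FibCat.fpFst x x)) := by
      apply Sheaf.hom_ext
      exact (spMapOfOver_hom_eq _).symm
    rw [h]
    exact ⟨prop_of_repWith_fp stableBaseChange_locP (repWith_locP_of_smooth (P := @Flat)
        (fun _ _ f (_ : Smooth f) => inferInstance) hx) x F e he,
      prop_of_repWith_fp stableBaseChange_locP
        (repWith_locP_of_smooth (P := @LocallyOfFinitePresentation)
          (fun _ _ f (_ : Smooth f) => inferInstance) hx) x F e he⟩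
  obtain ⟨hf, -, hp'⟩ := Groth.AlgSp2.locP_flat_lft_lfp_of_comp hF hR hU m (pullback.fst p p) hms
  have hj : IsEqvRelSp (pullback.fst p p) (pullback.snd p p) :=
    { injective := fun T r r' h₁ h₂ => pullback.hom_ext h₂ h₁
      equivalence := fun T =>
        { refl := fun a => ⟨pullback.lift a a rfl, pullback.lift_snd _ _ _, pullback.lift_fst _ _ _⟩
          symm := by
            rintro a b ⟨r, h₁, h₂⟩
            refine ⟨pullback.lift a b ?_, pullback.lift_snd _ _ _, pullback.lift_fst _ _ _⟩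
            rw [← h₁, ← h₂, Category.assoc, Category.assoc, pullback.condition]
          trans := by
            rintro a b d ⟨r, h₁, h₂⟩ ⟨r', h₁', h₂'⟩
            refine ⟨pullback.lift d a ?_, pullback.lift_snd _ _ _, pullback.lift_fst _ _ _⟩
            rw [← h₁, ← h₂', Category.assoc, Category.assoc, ← pullback.condition, reassoc_of% h₂,
              pullback.condition, reassoc_of% h₁'] } }
  exact Groth.FppfBoot.isAlgSpace_of_fppf_cover (X := ⟨_, hU⟩)
    (repBySpWith_quotient hR hU hj (hf (hm₁ ▸ hAfl.1)) (hp' (hm₁ ▸ hAfl.2)) sqR.flip)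

end Groth.StkGerb
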