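import Groth.Agent.StkGerb.Rigid.Sheaf
import Groth.Agent.StkGerb.Rigid.Space
import Groth.Agent.S16862

/-!
# Algebraic gerbes are the stacks with flat, locally finitely presented inertia
-/

set_option autoImplicit false
set_option backward.isDefEq.respectTransparency false
set_option backward.isDefEq.respectTransparency.types false

universe u

open CategoryTheory AlgebraicGeometry
open Groth.StkBase Groth.AlgStBasic

namespace Groth.StkGerb

variable {S : Scheme.{u}} {𝒳 : AlgSt.Cat S}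

/-- Over a category fibred in sets the relative inertia is the absolute one. -/
theorem exists_inertia_toSelf_equiv {M : AlgSp.Sp S} (π : 𝒳 ⥤ᵇ AlgSt.ofSp M) :
    ∃ E : FibCat.inertia (FibCat.toSelf 𝒳) ⥤ᵇ FibCat.inertia π, FibCat.IsEquivOver E ∧
      BasedFunctor.comp E (FibCat.inertiaToBase π) = FibCat.inertiaToBase (FibCat.toSelf 𝒳) := by
  let E : FibCat.inertia (FibCat.toSelf 𝒳) ⥤ᵇ FibCat.inertia π :=
    { toFunctor :=
        { obj := fun z => ⟨z.pt, z.aut, elt_hom_ext_p (by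
            have h : 𝒳.p.map z.aut.hom = 𝟙 _ := z.map_aut
            rw [map_map, h]
            simp)⟩
          map := fun φ => ⟨φ.hom, φ.comm⟩ }
      w := rfl }
  refine ⟨E, isEquivOver_of_fullyFaithful E ⟨fun {a b} φ => ⟨⟨φ.hom, φ.comm⟩, rfl⟩⟩
    ⟨fun {a b} φ ψ h => FibCat.InertiaObj.hom_ext (congrArg (fun t => t.hom) h :)⟩ (fun z => ?_), rfl⟩
  refine ⟨⟨z.pt, z.aut, ?_⟩, Iso.refl _, isVert_id _⟩
  have h := map_map π z.aut.hom
  rw [z.map_aut, (AlgSt.ofSp M).p.map_id] at h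
  show 𝒳.p.map z.aut.hom = 𝟙 _
  have h2 := congrArg (fun t => eqToHom (π.w_obj z.pt).symm ≫ t ≫ eqToHom (π.w_obj z.pt)) h
  simp at h2
  exact h2.symm

theorem isFL_inertia_of_isAlgGerbe (h𝒳 : AlgSt.IsAlgStack Scheme.fppfPrecoverage 𝒳)
    (h : Gerb.IsAlgGerbe Scheme.fppfPrecoverage 𝒳) :
    IsFL (FibCat.inertiaToBase (FibCat.toSelf 𝒳)) := by
  obtain ⟨X, π, hπ⟩ := h
  have hX : AlgSt.IsAlgStack Scheme.fppfPrecoverage (AlgSt.ofSp X.obj) := isAlgStack_ofSp X.property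
  have hfl : IsFL (FibCat.inertiaToBase π) :=
    Groth.Agent.S16862.result S 𝒳 (AlgSt.ofSp X.obj) h𝒳 hX π hπ
  obtain ⟨E, hE, eE⟩ := exists_inertia_toSelf_equiv π
  obtain ⟨E', hE', -, ⟨β⟩⟩ := isEquivOver_symm hE
  obtain ⟨E₂, hE₂, eE₂⟩ := exists_inertia_equiv π
  have hff := isAlgStack_fp hX.isStack hX.diag h𝒳 h𝒳 π π
  have hI : AlgSt.IsAlgStack Scheme.fppfPrecoverage (FibCat.inertia π) :=
    (isAlgStack_iff_of_isEquivOver _ hE₂).2 (isAlgStack_fp hff.isStack hff.diag h𝒳 h𝒳 _ _)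
  have hrep : AlgSt.RepByAlgSp1 (FibCat.inertiaToBase π) := by
    obtain ⟨h₁, -, -⟩ := repWith_diag_of_isGerbeOver h𝒳 hX hπ
    rw [← eE₂]
    exact repWith_repByAlgSp1 ((repWith_precomp_equiv hE₂ _).2 (repWith_fpFst _ _ h₁))
  obtain ⟨k₁, k₂⟩ := hfl.repWith hI h𝒳 hrep
  rw [← eE]
  exact isFL_of_repWith (isAlgStack_inertia h𝒳) h𝒳 ((repWith_precomp_equiv hE _).2 k₁)
    ((repWith_precomp_equiv hE _).2 k₂)

theorem isAlgGerbe_of_isFL_inertia (h𝒳 : AlgSt.IsAlgStack Scheme.fppfPrecoverage 𝒳)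
    (h : IsFL (FibCat.inertiaToBase (FibCat.toSelf 𝒳))) :
    Gerb.IsAlgGerbe Scheme.fppfPrecoverage 𝒳 := by
  have : FibCat.IsFibGrpd 𝒳.p := h𝒳.isStack.1
  exact ⟨⟨_, isAlgSpace_of_isGerbeOver h𝒳 h (isoClMap 𝒳) (isGerbeOver_isoClMap 𝒳)⟩, isoClMap 𝒳,
    isGerbeOver_isoClMap 𝒳⟩

end Groth.StkGerb
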