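import Groth.Agent.StkGerb.Rigid.Stratum
import Mathlib.SetTheory.Cardinal.Order

/-!
# Stratifications by gerbes
-/

set_option autoImplicit false
set_option backward.isDefEq.respectTransparency false
set_option backward.isDefEq.respectTransparency.types false

universe u v w

open CategoryTheory AlgebraicGeometry

namespace Groth.StkGerb

/-- Iterating a choice of a nonempty relatively open piece in closed sets exhausts a space along a
well-ordered set. -/
theorem exists_stratification {X : Type u} [TopologicalSpace X] {A : Type v} (rng : A → Set X)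
    (good : A → Prop) (extra : A → Set X → Prop)
    (hsel : ∀ C : Set X, IsClosed C → ∃ (a : A) (O : Set X), IsOpen O ∧ good a ∧ rng a = O ∩ C ∧
      extra a C ∧ (C.Nonempty → (O ∩ C).Nonempty)) :
    ∃ (I : Type u) (_ : LinearOrder I) (_ : WellFoundedLT I) (a : I → A) (T : I → Set X),
      (∀ i, T i = {p | ∀ i', i' < i → p ∉ rng (a i')}) ∧ (∀ i, good (a i)) ∧
      (∀ p, ∃ i, p ∈ rng (a i)) ∧ (∀ i, IsClosed (T i)) ∧
      ∀ i, rng (a i) ⊆ T i ∧ IsOpen ((Subtype.val : T i → X) ⁻¹' rng (a i)) ∧ extra (a i) (T i) := by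
  classical
  choose selA selO hO hgood hrng hextra hne using hsel
  let I := (Cardinal.mk (Set X)).ord.ToType
  let F : ∀ i : I, (∀ i' : I, i' < i → {O : Set X // IsOpen O}) → {O : Set X // IsOpen O} :=
    fun i prev => ⟨selO (⋂ (i' : I) (h : i' < i), (prev i' h).1ᶜ)
      (isClosed_iInter fun i' => isClosed_iInter fun h => (prev i' h).2.isClosed_compl),
      hO _ _⟩
  let U : I → {O : Set X // IsOpen O} := WellFoundedLT.fix F
  let T : I → Set X := fun i => ⋂ (i' : I) (_ : i' < i), (U i').1ᶜ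
  have hT : ∀ i, IsClosed (T i) := fun i =>
    isClosed_iInter fun i' => isClosed_iInter fun _ => (U i').2.isClosed_compl
  have hU : ∀ i, (U i).1 = selO (T i) (hT i) := fun i =>
    congrArg Subtype.val (WellFoundedLT.fix_eq F i)
  let a : I → A := fun i => selA (T i) (hT i)
  have ha : ∀ i, rng (a i) = (U i).1 ∩ T i := fun i => (hrng _ (hT i)).trans (by rw [hU])
  have hTeq : ∀ i, T i = {p | ∀ i', i' < i → p ∉ rng (a i')} := fun i => by
    ext p
    simp only [T, Set.mem_iInter, Set.mem_compl_iff, Set.mem_ofPred_eq]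
    refine ⟨fun h i' hi hp => h i' hi (ha i' ▸ hp).1, fun h i' hi => ?_⟩
    induction i' using WellFoundedLT.induction with
    | _ j ih =>
      intro hp
      refine h j hi (ha j ▸ ⟨hp, ?_⟩)
      simp only [T, Set.mem_iInter, Set.mem_compl_iff]
      exact fun k hk => ih k hk (hk.trans hi)
  refine ⟨I, inferInstance, inferInstance, a, T, hTeq, fun i => hgood _ _, fun p => ?_, hT,
    fun i => ⟨by rw [ha]; exact Set.inter_subset_right, ?_, hextra _ _⟩⟩
  · by_contra hp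
    push Not at hp
    have hmem : ∀ i, p ∈ T i := fun i => by
      rw [hTeq]
      exact fun i' _ => hp i'
    have hnon : ∀ i, (rng (a i)).Nonempty := fun i => by
      rw [hrng _ (hT i)]
      exact hne _ (hT i) ⟨p, hmem i⟩
    choose f hf using hnon
    have hlt : ∀ i j, i < j → f i ≠ f j := fun i j hij e => by
      have h1 : f j ∈ T j := (ha j ▸ hf j).2
      rw [hTeq] at h1
      exact h1 i hij (e ▸ hf i)
    have hinj : Function.Injective f := fun i j e => by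
      rcases lt_trichotomy i j with h | h | h
      · exact absurd e (hlt i j h)
      · exact h
      · exact absurd e.symm (hlt j i h)
    have h2 := Cardinal.mk_le_of_injective hinj
    rw [Cardinal.mk_toType, Cardinal.card_ord, Cardinal.mk_set] at h2
    exact (Cardinal.cantor _).not_ge h2
  · rw [ha, Set.preimage_inter, Subtype.coe_preimage_self, Set.inter_univ]
    exact (U i).2.preimage continuous_subtype_val

variable {S : Scheme.{u}} {𝒳 : AlgSt.Cat S}

theorem exists_gerbe_stratification (h𝒳 : AlgSt.IsAlgStack Scheme.fppfPrecoverage 𝒳)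
    (hI : AlgSt.IsQuasiCompactMor Scheme.fppfPrecoverage (FibCat.inertiaToBase (FibCat.toSelf 𝒳))) :
    ∃ (I : Type (u + 1)) (_ : LinearOrder I) (_ : WellFoundedLT I) (Q : I → 𝒳.obj → Prop)
      (T : I → Set (AlgSt.Points 𝒳)),
      (∀ i, T i = {p | ∀ i', i' < i → p ∉ Set.range (AlgSt.Points.map (AlgSt.subIncl 𝒳 (Q i')))}) ∧
      (∀ i, AlgSt.IsLocClosedSubstack 𝒳 (Q i) Scheme.fppfPrecoverage ∧
        AlgSt.SmoothLocally (fun X => IsReduced X) (AlgSt.fullSub 𝒳 (Q i)) ∧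
        Gerb.IsAlgGerbe Scheme.fppfPrecoverage (AlgSt.fullSub 𝒳 (Q i))) ∧
      (∀ p : AlgSt.Points 𝒳, ∃ i, p ∈ Set.range (AlgSt.Points.map (AlgSt.subIncl 𝒳 (Q i)))) ∧
      (∀ i, IsClosed (T i)) ∧
      (∀ i, Set.range (AlgSt.Points.map (AlgSt.subIncl 𝒳 (Q i))) ⊆ T i ∧
        IsOpen ((Subtype.val : T i → AlgSt.Points 𝒳) ⁻¹' Set.range (AlgSt.Points.map (AlgSt.subIncl 𝒳 (Q i)))) ∧
        Dense ((Subtype.val : T i → AlgSt.Points 𝒳) ⁻¹' Set.range (AlgSt.Points.map (AlgSt.subIncl 𝒳 (Q i))))) := by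
  refine exists_stratification (fun Q => Set.range (AlgSt.Points.map (AlgSt.subIncl 𝒳 Q)))
    (fun Q => AlgSt.IsLocClosedSubstack 𝒳 Q Scheme.fppfPrecoverage ∧
      AlgSt.SmoothLocally (fun X => IsReduced X) (AlgSt.fullSub 𝒳 Q) ∧
      Gerb.IsAlgGerbe Scheme.fppfPrecoverage (AlgSt.fullSub 𝒳 Q))
    (fun Q C => Dense ((Subtype.val : C → AlgSt.Points 𝒳) ⁻¹'
      Set.range (AlgSt.Points.map (AlgSt.subIncl 𝒳 Q)))) fun C hC => ?_
  obtain ⟨⟨Q, O, hO, h₁, h₂, h₃, h₄, h₅⟩, -⟩ := exists_strata_in_closed h𝒳 hI C hC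
  refine ⟨Q, O, hO, ⟨h₁, h₂, h₃⟩, h₄, ?_, fun hne => closure_nonempty_iff.1 (hne.mono h₅)⟩
  rw [Subtype.dense_iff, Subtype.image_preimage_coe, h₄, ← Set.inter_assoc, Set.inter_comm C O,
    Set.inter_assoc, Set.inter_self]
  exact h₅

theorem exists_qc_gerbe_stratification (h𝒳 : AlgSt.IsAlgStack Scheme.fppfPrecoverage 𝒳)
    (hI : AlgSt.IsQuasiCompactMor Scheme.fppfPrecoverage (FibCat.inertiaToBase (FibCat.toSelf 𝒳))) :
    ∃ (I : Type (u + 1)) (_ : LinearOrder I) (_ : WellFoundedLT I) (Q : I → 𝒳.obj → Prop)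
      (T : I → Set (AlgSt.Points 𝒳)),
      (∀ i, T i = {p | ∀ i', i' < i → p ∉ Set.range (AlgSt.Points.map (AlgSt.subIncl 𝒳 (Q i')))}) ∧
      (∀ i, AlgSt.IsLocClosedSubstack 𝒳 (Q i) Scheme.fppfPrecoverage ∧
        AlgSt.SmoothLocally (fun X => IsReduced X) (AlgSt.fullSub 𝒳 (Q i)) ∧
        AlgSt.IsQuasiCompact (AlgSt.fullSub 𝒳 (Q i)) ∧
        Gerb.IsAlgGerbe Scheme.fppfPrecoverage (AlgSt.fullSub 𝒳 (Q i))) ∧
      (∀ p : AlgSt.Points 𝒳, ∃ i, p ∈ Set.range (AlgSt.Points.map (AlgSt.subIncl 𝒳 (Q i)))) ∧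
      (∀ i, IsClosed (T i)) ∧
      (∀ i, Set.range (AlgSt.Points.map (AlgSt.subIncl 𝒳 (Q i))) ⊆ T i ∧
        IsOpen ((Subtype.val : T i → AlgSt.Points 𝒳) ⁻¹' Set.range (AlgSt.Points.map (AlgSt.subIncl 𝒳 (Q i))))) := by
  obtain ⟨I, hl, hw, Q, T, h₁, h₂, h₃, h₄, h₅⟩ :=
    exists_stratification (fun Q => Set.range (AlgSt.Points.map (AlgSt.subIncl 𝒳 Q)))
      (fun Q => AlgSt.IsLocClosedSubstack 𝒳 Q Scheme.fppfPrecoverage ∧
        AlgSt.SmoothLocally (fun X => IsReduced X) (AlgSt.fullSub 𝒳 Q) ∧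
        AlgSt.IsQuasiCompact (AlgSt.fullSub 𝒳 Q) ∧
        Gerb.IsAlgGerbe Scheme.fppfPrecoverage (AlgSt.fullSub 𝒳 Q))
      (fun _ _ => True) fun C hC => by
        obtain ⟨-, Q, O, hO, h₁, h₂, h₃, h₄, h₅, h₆⟩ := exists_strata_in_closed h𝒳 hI C hC
        exact ⟨Q, O, hO, ⟨h₁, h₂, h₄, h₃⟩, h₅, trivial, h₆⟩
  exact ⟨I, hl, hw, Q, T, h₁, h₂, h₃, h₄, fun i => ⟨(h₅ i).1, (h₅ i).2.1⟩⟩

end Groth.StkGerb
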