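import Groth.Agent.StkGerb.Rigid.Point
import Groth.Agent.StkGerb.Rigid.Local
import Groth.Agent.FlatMorOne.GenFlatScheme
import Groth.Agent.AlgStBasic.OpenSub

/-!
# A reduced stack with quasi-compact inertia is generically a gerbe
-/

set_option autoImplicit false
set_option backward.isDefEq.respectTransparency false
set_option backward.isDefEq.respectTransparency.types false

universe u

open CategoryTheory CategoryTheory.Limits AlgebraicGeometry Opposite
open Groth.StkBase Groth.AlgStBasic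

noncomputable section

namespace Groth.StkGerb

variable {S : Scheme.{u}} {𝒳 𝒲 : AlgSt.Cat S}

/-- An open subscheme as a scheme over `S`. -/
abbrev opSch (V : Over S) (O : V.left.Opens) : Over S := Over.mk (O.ι ≫ V.hom)

/-- Its inclusion. -/
abbrev opIncl (V : Over S) (O : V.left.Opens) : opSch V O ⟶ V := Over.homMk O.ι

/-- Generic flatness for a quasi-compact stack locally of finite type over a reduced affine scheme. -/
theorem exists_dense_isFL (h𝒲 : AlgSt.IsAlgStack Scheme.fppfPrecoverage 𝒲)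
    (hqc : AlgSt.IsQuasiCompact 𝒲) {V : Over S} [IsAffine V.left] [IsReduced V.left]
    (f : 𝒲 ⥤ᵇ FibCat.overCat V)
    (hf : AlgSt.LocQ (AlgSp.LocP (S := S) @LocallyOfFiniteType) f) :
    ∃ O : V.left.Opens, Dense (O : Set V.left) ∧ IsFL (FibCat.fpFst (AlgSt.overMap (opIncl V O)) f) := by
  obtain ⟨W, w, hW, hw, hws⟩ := hqc
  obtain ⟨d, ⟨δ⟩⟩ := exists_overMap_iso (BasedFunctor.comp w f)
  have hV := isAlgStack_overCat V
  have hWst := isAlgStack_overCat W
  have : LocallyOfFiniteType d.left := by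
    refine left_prop_of_repWith_overMap (P := @LocallyOfFiniteType) ?_
    refine repWith_of_iso δ ?_
    refine repWith_of_locQ stableBaseChange_locP (isLocalOnBase_fppf_locP _) isSmoothLocalST_lft hWst hV
      (repByAlgSp1_of_iso δ.symm (repByAlgSp1_of_repByAlgSp (repByAlgSp_overCat W) (repByAlgSp_overCat V) _)) ?_
    exact locQ_comp isSmoothLocalST_lft stableComp_locP hWst h𝒲 hV
      (locQ_of_repWith stableBaseChange_locP descendsAlongAtlas_locP isSmoothLocalST_lft hWst h𝒲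
        (repWith_locP_of_smooth (P := @LocallyOfFiniteType)
          (fun _ _ g (_ : Smooth g) => inferInstance) hw)) hf
  have : IsAffineHom d.left := isAffineHom_of_isAffine d.left
  obtain ⟨O, hO, hfl, hfp⟩ := Groth.FlatMorOne.exists_dense_flat_finitePresentation d.left
  refine ⟨O, hO, ?_⟩
  let j := opIncl V O
  let k₁ : opSch W (d.left ⁻¹ᵁ O) ⟶ opSch V O := Over.homMk (d.left ∣_ O) (by
    show (d.left ∣_ O) ≫ O.ι ≫ V.hom = (d.left ⁻¹ᵁ O).ι ≫ W.hom
    rw [← Category.assoc, morphismRestrict_ι, Category.assoc, Over.w])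
  let k₂ := opIncl W (d.left ⁻¹ᵁ O)
  have sq : IsPullback k₁ k₂ j d :=
    IsPullback.of_map (Over.forget S) (Over.OverMorphism.ext (morphismRestrict_ι d.left O))
      (isPullback_morphismRestrict d.left O)
  obtain ⟨Λ, hΛ, hΛ₁⟩ := exists_equiv_fp_overMap sq
  let C := fpCongr (Iso.refl (AlgSt.overMap j)) δ.symm
  let M := fpPre (BasedFunctor.id (FibCat.overCat (opSch V O) : AlgSt.Cat S)) w (AlgSt.overMap j) f
  have hC : FibCat.IsEquivOver (BasedFunctor.comp Λ C) :=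
    isEquivOver_comp hΛ (isEquivOver_fpCongr _ _)
  have hx : AlgSt.RepByAlgSpWith (AlgSp.LocP @Smooth) (BasedFunctor.comp (BasedFunctor.comp Λ C) M) :=
    (repWith_precomp_equiv hC M).2 (repWith_fpPre_id_left w (AlgSt.overMap j) f hw)
  have hxs : AlgSt.RepByAlgSpWith AlgSp.IsSurjectiveMor (BasedFunctor.comp (BasedFunctor.comp Λ C) M) :=
    (repWith_precomp_equiv hC M).2 (repWith_fpPre_id_left w (AlgSt.overMap j) f hws)
  refine isFL_of_atlas hx hxs (k := k₁) ?_ hfl hfp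
  exact eqToIso hΛ₁

/-- A smooth chart lifts a point of a test scheme, smoothly near it. -/
theorem exists_smooth_lift_at (hX : FibCat.IsFibGrpd 𝒳.p) {U : Over S}
    {x : FibCat.overCat U ⥤ᵇ 𝒳} (hx : AlgSt.RepByAlgSpWith (AlgSp.LocP @Smooth) x) {T : Over S}
    (y : FibCat.overCat T ⥤ᵇ 𝒳) (t : ↥T.left)
    (ht : AlgSt.Points.ofChart y t ∈ Set.range (AlgSt.Points.ofChart x)) :
    ∃ (W : Over S) (c : W ⟶ T) (a : W ⟶ U), Smooth c.left ∧ t ∈ Set.range c.left ∧
      Nonempty (BasedFunctor.comp (AlgSt.overMap a) x ≅ BasedFunctor.comp (AlgSt.overMap c) y) := by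
  obtain ⟨F, e, he⟩ := repWith_repByAlgSp1 hx T y
  have q₁ := prop_of_repWith_fp stableBaseChange_locP hx y F e he
  obtain ⟨W, r, hr, hrs⟩ := F.property.atlas
  obtain ⟨c, hc⟩ := (AlgSp.yon S).map_surjective
    (r ≫ AlgSt.spMapOfOver (BasedFunctor.comp e (FibCat.fpFst y x)))
  have hcm : Smooth c.left :=
    q₁ r (𝟙 _) c hr (AlgSp.repWith_id @Etale T) (by rw [Category.comp_id, hc])
  have ht' : t ∈ AlgSt.Points.ofChart y ⁻¹' (AlgSt.Points.map x '' Set.univ) := by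
    obtain ⟨v, hv⟩ := ht
    exact ⟨_, trivial, (ofChart_eq_map x v).symm.trans hv⟩
  rw [preimage_image_chart (isFibGrpd_overCat U) hX x y e he] at ht'
  obtain ⟨_, ⟨z, -, rfl⟩, hz⟩ := ht'
  have hcr : t ∈ Set.range c.left := by
    obtain ⟨s, rfl⟩ := Groth.AlgSpBasic.surjective_ofPt_of_repWith hrs z
    refine ⟨s, (AlgSp.Points.schemeHomeo T).injective ?_⟩
    rw [← hz]
    show AlgSp.Points.ofScheme T _ = AlgSp.Points.ofScheme T (AlgSp.Points.toScheme T _)
    rw [AlgSp.Points.ofScheme_toScheme, Groth.AlgSpBasic.ofPt_eq_map, ← AlgSp.Points.map_comp, ← hc]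
    exact (AlgSp.Points.map_yon_map_apply _ _).symm
  obtain ⟨z', ⟨α⟩⟩ := exists_lift_of_section y e r c hc
  obtain ⟨a, ⟨β⟩⟩ := exists_overMap_iso z'
  exact ⟨W, c, a, hcm, hcr, ⟨(whiskerRightIso β.symm x).trans α⟩⟩

/-- A jointly surjective smooth family generates a covering sieve. -/
theorem generate_ofArrows_mem {T : Over S} {ι : Type u} (W : ι → Over S) (c : ∀ i, W i ⟶ T)
    (hc : ∀ i, Smooth (c i).left) (hs : ∀ t : ↥T.left, ∃ i, t ∈ Set.range (c i).left) :
    Sieve.generate (Presieve.ofArrows W c) ∈ AlgSp.J S T := by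
  rw [GrothendieckTopology.mem_over_iff]
  refine GrothendieckTopology.superset_covering _ ?_
    (Precoverage.generate_mem_toGrothendieck
      (show Presieve.ofArrows (fun i => (W i).left) (fun i => (c i).left) ∈
        Scheme.fppfPrecoverage T.left from ?_))
  · rw [Sieve.generate_le_iff]
    rintro _ _ ⟨i⟩
    exact ⟨W i, c i, 𝟙 _, ⟨W i, 𝟙 _, c i, ⟨i⟩, by simp⟩, by simp⟩
  · rw [Scheme.fppfPrecoverage, Scheme.ofArrows_mem_precoverage_iff]
    refine ⟨fun t => ?_, fun i => ?_⟩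
    · obtain ⟨i, s, hs⟩ := hs t
      exact ⟨i, s, hs⟩
    · have := hc i
      exact ⟨inferInstance, inferInstance⟩

/-- The inertia of a full substack closed under isomorphisms. -/
theorem exists_inertia_fullSub_equiv (Q : 𝒳.obj → Prop) [ObjectProperty.IsClosedUnderIsomorphisms Q] :
    ∃ E : FibCat.inertia (FibCat.toSelf (AlgSt.fullSub 𝒳 Q)) ⥤ᵇ
        FibCat.fp (AlgSt.subIncl 𝒳 Q) (FibCat.inertiaToBase (FibCat.toSelf 𝒳)),
      FibCat.IsEquivOver E ∧ BasedFunctor.comp E (FibCat.fpFst _ _) =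
        FibCat.inertiaToBase (FibCat.toSelf (AlgSt.fullSub 𝒳 Q)) := by
  let G : FibCat.inertia (FibCat.toSelf (AlgSt.fullSub 𝒳 Q)) ⥤ᵇ FibCat.inertia (FibCat.toSelf 𝒳) :=
    { toFunctor :=
        { obj := fun z => ⟨z.pt.obj, (ObjectProperty.ι _).mapIso z.aut, z.map_aut⟩
          map := fun φ => ⟨φ.hom.hom, congrArg (fun k => k.hom) φ.comm⟩ }
      w := rfl }
  let E := FibCat.fpLift (F := AlgSt.subIncl 𝒳 Q) (G := FibCat.inertiaToBase (FibCat.toSelf 𝒳))
    (FibCat.inertiaToBase (FibCat.toSelf (AlgSt.fullSub 𝒳 Q))) G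
    (isoMk (fun z => Iso.refl z.pt.obj)
      (fun φ => (Category.comp_id _).trans (Category.id_comp _).symm) (fun z => isVert_id _))
  refine ⟨E, isEquivOver_of_fullyFaithful E ⟨fun {a b} φ => ?_⟩ ⟨fun {a b} φ ψ h => ?_⟩ (fun y => ?_), rfl⟩
  · have hw : φ.hom.fst.hom ≫ 𝟙 b.pt.obj = 𝟙 a.pt.obj ≫ φ.hom.snd.hom := φ.hom.w
    have hw : φ.hom.fst.hom = φ.hom.snd.hom := (Category.comp_id _).symm.trans (hw.trans (Category.id_comp _))
    have hc : a.aut.hom.hom ≫ φ.hom.snd.hom = φ.hom.snd.hom ≫ b.aut.hom.hom := φ.hom.snd.comm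
    exact ⟨⟨φ.hom.fst, ObjectProperty.hom_ext _
      ((hw ▸ hc : a.aut.hom.hom ≫ φ.hom.fst.hom = φ.hom.fst.hom ≫ b.aut.hom.hom) :)⟩,
      fp_hom_ext rfl (FibCat.InertiaObj.hom_ext hw)⟩
  · exact FibCat.InertiaObj.hom_ext (congrArg (fun t => t.hom.fst) h)
  · let p := y.obj.fst
    let z := y.obj.snd
    let i : p.obj ≅ z.pt := y.obj.iso
    have hi : IsVert 𝒳.p i.hom := fp_isVert y
    let β : p.obj ≅ p.obj := i ≪≫ z.aut ≪≫ i.symm
    have hβ : IsVert 𝒳.p β.hom := hi.comp ((show IsVert 𝒳.p z.aut.hom from ⟨rfl, z.map_aut⟩).comp hi.inv)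
    let z₀ : (FibCat.inertia (FibCat.toSelf (AlgSt.fullSub 𝒳 Q))).obj :=
      ⟨p, (ObjectProperty.fullyFaithfulι _).preimageIso β, by
        show 𝒳.p.map β.hom = 𝟙 _
        rw [hβ.map_eq]; rfl⟩
    let j : (⟨p.obj, β, by show 𝒳.p.map β.hom = _; rw [hβ.map_eq]; rfl⟩ :
        (FibCat.inertia (FibCat.toSelf 𝒳)).obj) ≅ z :=
      { hom := ⟨i.hom, by simp [β]⟩
        inv := ⟨i.inv, by simp [β]⟩
        hom_inv_id := FibCat.InertiaObj.hom_ext i.hom_inv_id
        inv_hom_id := FibCat.InertiaObj.hom_ext i.inv_hom_id }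
    refine ⟨z₀, fpObjIso (Iso.refl _) j ?_, isVert_id p.obj⟩
    show 𝟙 p.obj ≫ i.hom = 𝟙 p.obj ≫ i.hom
    rfl

/-- A reduced algebraic stack with quasi-compact inertia has a dense open gerbe. -/
theorem exists_dense_gerbe (h𝒳 : AlgSt.IsAlgStack Scheme.fppfPrecoverage 𝒳)
    (hred : AlgSt.SmoothLocally (fun T => IsReduced T) 𝒳)
    (hI : AlgSt.IsQuasiCompactMor Scheme.fppfPrecoverage (FibCat.inertiaToBase (FibCat.toSelf 𝒳))) :
    ∃ Q : 𝒳.obj → Prop, AlgSt.IsOpenSubstack 𝒳 Q Scheme.fppfPrecoverage ∧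
      Dense (Set.range (AlgSt.Points.map (AlgSt.subIncl 𝒳 Q))) ∧
      Gerb.IsAlgGerbe Scheme.fppfPrecoverage (AlgSt.fullSub 𝒳 Q) := by
  have hX : FibCat.IsFibGrpd 𝒳.p := h𝒳.isStack.1
  obtain ⟨U, x, hx, hxs⟩ := h𝒳.atlas
  have hUr : IsReduced U.left := hred U x hx
  let I := FibCat.inertiaToBase (FibCat.toSelf 𝒳)
  have hIrep : AlgSt.RepByAlgSp1 I := repByAlgSp1_inertiaToBase h𝒳
  have hIlft : AlgSt.RepByAlgSpWith (AlgSp.LocP @LocallyOfFiniteType) I :=
    repWith_inertiaToBase _ (repWith_lft_diag_toSelf h𝒳)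
  have hIst := isAlgStack_inertia h𝒳
  let xV : ∀ V : U.left.affineOpens, FibCat.overCat (opSch U V.1) ⥤ᵇ 𝒳 :=
    fun V => BasedFunctor.comp (AlgSt.overMap (opIncl U V.1)) x
  have hxV : ∀ V, AlgSt.RepByAlgSpWith (AlgSp.LocP @Smooth) (xV V) := fun V =>
    Groth.ResGerbe.repWith_comp_smooth (P := @Smooth) (fun _ _ _ h => h) _
      (inferInstanceAs (Smooth V.1.ι)) hx
  have key : ∀ V : U.left.affineOpens, ∃ O : (opSch U V.1).left.Opens, Dense (O : Set (opSch U V.1).left) ∧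
      AlgSt.RepByAlgSpWith (AlgSp.LocP @Flat)
        (FibCat.fpFst (AlgSt.overMap (opIncl _ O)) (FibCat.fpFst (xV V) I)) ∧
      AlgSt.RepByAlgSpWith (AlgSp.LocP @LocallyOfFinitePresentation)
        (FibCat.fpFst (AlgSt.overMap (opIncl _ O)) (FibCat.fpFst (xV V) I)) := fun V => by
    have : IsAffine (opSch U V.1).left := V.2
    have : IsReduced (opSch U V.1).left := inferInstanceAs (IsReduced V.1.toScheme)
    have hV := isAlgStack_overCat (opSch U V.1)
    have hW := isAlgStack_fp h𝒳.isStack h𝒳.diag hV hIst (xV V) I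
    obtain ⟨O, hO, hfl⟩ := exists_dense_isFL hW (hI _ hV isQuasiCompact_overCat (xV V))
      (FibCat.fpFst (xV V) I) (locQ_of_repWith stableBaseChange_locP descendsAlongAtlas_locP
        isSmoothLocalST_lft hW hV (repWith_fpFst _ _ hIlft))
    obtain ⟨k₁, k₂⟩ := hfl.repWith
      (isAlgStack_fp hV.isStack hV.diag (isAlgStack_overCat _) hW _ _) (isAlgStack_overCat _)
      (repByAlgSp1_fpFst _ _ (repByAlgSp1_fpFst _ _ hIrep))
    exact ⟨O, hO, k₁, k₂⟩
  choose O hOd hO₁ hO₂ using key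
  let xO : ∀ V : U.left.affineOpens, FibCat.overCat (opSch (opSch U V.1) (O V)) ⥤ᵇ 𝒳 :=
    fun V => BasedFunctor.comp (AlgSt.overMap (opIncl _ (O V))) (xV V)
  have hxO : ∀ V, AlgSt.RepByAlgSpWith (AlgSp.LocP @Smooth) (xO V) := fun V =>
    Groth.ResGerbe.repWith_comp_smooth (P := @Smooth) (fun _ _ _ h => h) _
      (inferInstanceAs (Smooth (O V).ι)) (hxV V)
  let T : Set (AlgSt.Points 𝒳) := ⋃ V, Set.range (AlgSt.Points.ofChart (xO V))
  have hT : IsOpen T :=
    isOpen_iUnion fun V => (isOpenMap_ofChart_of_smooth hX (hxO V)).isOpen_range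
  have hTd : Dense T := by
    let D : Set U.left := ⋃ V : U.left.affineOpens, V.1.ι '' ((O V).carrier : Set (opSch U V.1).left)
    have hD : Dense D := by
      rw [dense_iff_inter_open]
      rintro A hA ⟨u, hu⟩
      obtain ⟨V, hV, huV, hVA⟩ := exists_isAffineOpen_mem_and_subset (X := U.left) (x := u)
        (U := ⟨A, hA⟩) hu
      obtain ⟨v, -, hv⟩ := dense_iff_inter_open.1 (hOd ⟨V, hV⟩) Set.univ isOpen_univ ⟨⟨u, huV⟩, trivial⟩
      exact ⟨V.ι v, hVA v.2, Set.mem_iUnion.2 ⟨⟨V, hV⟩, v, hv, rfl⟩⟩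
    have hd : Dense (AlgSt.Points.ofChart x '' D) :=
      ((surjective_ofChart hX hxs).denseRange).dense_image (continuous_ofChart h𝒳 x) hD
    refine hd.mono ?_
    rintro _ ⟨_, hu, rfl⟩
    obtain ⟨V, v, hv, rfl⟩ := Set.mem_iUnion.1 hu
    refine Set.mem_iUnion.2 ⟨V, ⟨v, hv⟩, ?_⟩
    exact (ofChart_overMap _ _ _).trans (ofChart_overMap _ _ _)
  have hQ := isOpenSubstack_inPts h𝒳 hT
  let i := AlgSt.subIncl 𝒳 (inPts T)
  have hloc : ∀ (P : MorphismProperty Scheme.{u}) [Groth.AlgSpBasic.EtaleLocal P],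
      (∀ V, AlgSt.RepByAlgSpWith (AlgSp.LocP P)
        (FibCat.fpFst (AlgSt.overMap (opIncl _ (O V))) (FibCat.fpFst (xV V) I))) →
      AlgSt.RepByAlgSpWith (AlgSp.LocP P) (FibCat.fpFst i I) := by
    intro P _ hP W y
    refine RepFst.of_equiv (isEquivOver_fpUnpaste y i I) (Iso.refl _) ?_
    let y' := BasedFunctor.comp y i
    have hpt : ∀ w : ↥W.left, ∃ V, AlgSt.Points.ofChart y' w ∈ Set.range (AlgSt.Points.ofChart (xO V)) :=
      fun w => by
        refine Set.mem_iUnion.1 (range_subIncl_inPts T ⟨AlgSt.Points.ofChart y w, ?_⟩)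
        rfl
    choose V hV using hpt
    choose W' c a hc hcw α using fun w => exists_smooth_lift_at hX (hxO (V w)) y' w (hV w)
    refine repFst_of_locally stableBaseChange_locP (isLocalOnBase_fppf_locP _) hIrep y'
      (generate_ofArrows_mem W' c hc fun t => ⟨t, hcw t⟩) ?_
    rintro W₁ h ⟨_, l, _, ⟨w⟩, rfl⟩
    let t := BasedFunctor.comp (AlgSt.overMap l) (AlgSt.overMap (a w))
    let j := AlgSt.overMap (opIncl _ (O (V w)))
    have γ : BasedFunctor.comp (BasedFunctor.comp t j) (xV (V w)) ≅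
        BasedFunctor.comp (AlgSt.overMap (l ≫ c w)) y' :=
      (whiskerLeftIso (AlgSt.overMap l) (α w).some).trans
        (whiskerRightIso (nonempty_overMap_comp_iso l (c w)).some y')
    exact RepFst.of_equiv (isEquivOver_fpCongr γ (Iso.refl I)) (Iso.refl _)
      (RepFst.of_equiv (isEquivOver_fpPaste (BasedFunctor.comp t j) (xV (V w)) I) (Iso.refl _)
        (RepFst.of_equiv (isEquivOver_fpPaste t j (FibCat.fpFst (xV (V w)) I)) (Iso.refl _)
          (hP (V w) W₁ t)))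
  obtain ⟨E, hE, eE⟩ := exists_inertia_fullSub_equiv (inPts T)
  refine ⟨inPts T, hQ, by rw [range_subIncl_inPts_eq]; exact hTd,
    isAlgGerbe_of_isFL_inertia hQ.2.1 ?_⟩
  rw [← eE]
  exact isFL_of_repWith (isAlgStack_inertia hQ.2.1) hQ.2.1
    ((repWith_precomp_equiv hE _).2 (hloc @Flat hO₁))
    ((repWith_precomp_equiv hE _).2 (hloc @LocallyOfFinitePresentation hO₂))

end Groth.StkGerb
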