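import Groth.Agent.StkGerb.Rigid.Pair
import Groth.Agent.StkGerb.ChartFL
import Groth.Agent.StkGerb.GerbeApps

/-!
# The inertia pulled back to a pair of points with isomorphic images
-/

set_option autoImplicit false
set_option backward.isDefEq.respectTransparency false
set_option backward.isDefEq.respectTransparency.types false

universe u

open CategoryTheory AlgebraicGeometry Opposite
open Groth.StkBase Groth.AlgStBasic

namespace Groth.StkGerb

variable {S : Scheme.{u}} {𝒳 : AlgSt.Cat S}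

theorem repByAlgSp1_inertiaToBase (h𝒳 : AlgSt.IsAlgStack Scheme.fppfPrecoverage 𝒳) :
    AlgSt.RepByAlgSp1 (FibCat.inertiaToBase (FibCat.toSelf 𝒳)) := by
  obtain ⟨E, hE, eE⟩ := exists_inertia_equiv (FibCat.toSelf 𝒳)
  rw [← eE]
  exact (repWith_top_iff _).1 ((repWith_precomp_equiv hE _).2
    (repWith_fpFst _ _ ((repWith_top_iff _).2 h𝒳.diag)))

theorem isAlgStack_inertia (h𝒳 : AlgSt.IsAlgStack Scheme.fppfPrecoverage 𝒳) :
    AlgSt.IsAlgStack Scheme.fppfPrecoverage (FibCat.inertia (FibCat.toSelf 𝒳)) := by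
  obtain ⟨E, hE, -⟩ := exists_inertia_equiv (FibCat.toSelf 𝒳)
  refine isAlgStack_of_repByAlgSp1 ?_ h𝒳 _ (repByAlgSp1_inertiaToBase h𝒳)
  exact (isFibGrpd_iff_of_isEquivOver hE).2 (isFibGrpd_fp h𝒳.isStack.1 h𝒳.isStack.1
    (isFibGrpd_fp h𝒳.isStack.1 h𝒳.isStack.1 isFibGrpd_selfOver))

/-- The tautological automorphism of the inertia. -/
def inertiaAut : FibCat.inertiaToBase (FibCat.toSelf 𝒳) ≅ FibCat.inertiaToBase (FibCat.toSelf 𝒳) :=
  isoMk (fun z => z.aut) (fun φ => φ.comm.symm) (fun z => ⟨rfl, z.map_aut⟩)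

variable {U T : Over S} {x : FibCat.overCat U ⥤ᵇ 𝒳}

/-- The automorphisms pulled back to a pair of points with isomorphic images form a space, flat and locally
of finite presentation over the base, and covering the pairs. -/
theorem exists_inertia_space (h𝒳 : AlgSt.IsAlgStack Scheme.fppfPrecoverage 𝒳)
    (hI : IsFL (FibCat.inertiaToBase (FibCat.toSelf 𝒳))) {F : AlgSp.Sp S}
    {e : AlgSt.ofSp F ⥤ᵇ FibCat.fp x x} (he : FibCat.IsEquivOver e) (a b : T ⟶ U)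
    (h : x.obj (Over.mk a) ≅ x.obj (Over.mk b)) (hh : IsVert 𝒳.p h.hom) :
    ∃ (G : AlgSp.Sp S) (γ : G ⟶ F) (c : G ⟶ (AlgSp.yon S).obj T), AlgSp.IsAlgSpace G ∧
      AlgSp.LocP @Flat c ∧ AlgSp.LocP @LocallyOfFinitePresentation c ∧
      γ ≫ pairMapFst e = c ≫ (AlgSp.yon S).map a ∧ γ ≫ pairMapSnd e = c ≫ (AlgSp.yon S).map b ∧
      ∀ (V : Over S) (q : F.obj.obj (op V)) (k : V ⟶ T),
        (pairMapFst e).hom.app (op V) q = ⟨k ≫ a⟩ → (pairMapSnd e).hom.app (op V) q = ⟨k ≫ b⟩ →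
          ∃ t : G.obj.obj (op V), γ.hom.app (op V) t = q ∧ c.hom.app (op V) t = ⟨k⟩ := by
  have hX : FibCat.IsFibGrpd 𝒳.p := h𝒳.isStack.1
  have hrep := repByAlgSp1_inertiaToBase h𝒳
  obtain ⟨hfl, hfp⟩ := hI.repWith (isAlgStack_inertia h𝒳) h𝒳 hrep
  let I := FibCat.inertiaToBase (FibCat.toSelf 𝒳)
  let σ := BasedFunctor.comp (AlgSt.overMap a) x
  obtain ⟨η₀⟩ : Nonempty (σ ≅ BasedFunctor.comp (AlgSt.overMap b) x) := by
    obtain ⟨ω₁, h₁⟩ := isVert_mk_iso (S := S) (show 𝟙 T ≫ a = a from Category.id_comp a)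
    obtain ⟨ω₂, h₂⟩ := isVert_mk_iso (S := S) (show 𝟙 T ≫ b = b from Category.id_comp b)
    exact (nonempty_overIso_iff hX _ _).2
      ⟨x.map ω₁.hom ≫ h.hom ≫ x.map ω₂.inv, (isVert_map h₁).comp (hh.comp (isVert_map h₂.inv))⟩
  obtain ⟨G, eG, heG⟩ := hrep T σ
  let Γ : FibCat.fp σ I ⥤ᵇ FibCat.fp x x :=
    FibCat.fpLift (BasedFunctor.comp (FibCat.fpFst σ I) (AlgSt.overMap a))
      (BasedFunctor.comp (FibCat.fpFst σ I) (AlgSt.overMap b))
      ((FibCat.fpIso σ I).trans ((whiskerLeftIso (FibCat.fpSnd σ I) inertiaAut).trans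
        ((FibCat.fpIso σ I).symm.trans (whiskerLeftIso (FibCat.fpFst σ I) η₀))))
  obtain ⟨ε, hε₁, hε₂⟩ := exists_inverse_sec he
  obtain ⟨εG, -, hεG⟩ := exists_inverse_sec heG
  let γ : G.obj ⟶ F := mapOf (BasedFunctor.comp (BasedFunctor.comp eG Γ) ε)
  let c : G.obj ⟶ (AlgSp.yon S).obj T :=
    mapOf (BasedFunctor.comp (BasedFunctor.comp eG (FibCat.fpFst σ I)) (AlgSt.ofOverCat T))
  have hc : c = AlgSt.spMapOfOver (BasedFunctor.comp eG (FibCat.fpFst σ I)) := by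
    apply Sheaf.hom_ext
    exact (spMapOfOver_hom_eq _).symm
  let og : ∀ (V : Over S), G.obj.obj.obj (op V) → (FibCat.fp σ I).p.Fiber V :=
    fun V t => fibMap eG ⟨⟨V, t⟩, rfl⟩
  have hγ : ∀ (V : Over S) (t : G.obj.obj.obj (op V)),
      γ.hom.app (op V) t = AlgSt.fibSec ε (fibMap Γ (og V t)) := fun V t => rfl
  have hct : ∀ (V : Over S) (t : G.obj.obj.obj (op V)),
      c.hom.app (op V) t = ⟨ovHom (fibMap (FibCat.fpFst σ I) (og V t))⟩ := fun V t => rfl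
  refine ⟨G.obj, γ, c, G.property, hc ▸ prop_of_repWith_fp stableBaseChange_locP hfl σ G eG heG,
    hc ▸ prop_of_repWith_fp stableBaseChange_locP hfp σ G eG heG, ?_, ?_, fun V q k hq₁ hq₂ => ?_⟩
  · apply Sheaf.hom_ext
    ext V t
    obtain ⟨χ, hχ⟩ := hε₂ V.unop (fibMap Γ (og V.unop t))
    show (pairMapFst e).hom.app (op V.unop) (γ.hom.app (op V.unop) t) = _
    rw [pairMapFst_app, hγ, pairFst_eq_of_vert (o' := fibMap Γ (og V.unop t)) χ hχ]
    refine congrArg ULift.up ?_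
    exact (Category.assoc _ _ _).symm
  · apply Sheaf.hom_ext
    ext V t
    obtain ⟨χ, hχ⟩ := hε₂ V.unop (fibMap Γ (og V.unop t))
    show (pairMapSnd e).hom.app (op V.unop) (γ.hom.app (op V.unop) t) = _
    rw [pairMapSnd_app, hγ, pairSnd_eq_of_vert (o' := fibMap Γ (og V.unop t)) χ hχ]
    refine congrArg ULift.up ?_
    exact (Category.assoc _ _ _).symm
  · obtain ⟨i, hi, χ, hχ⟩ := exists_pair_iso (fibMap e ⟨⟨V, q⟩, rfl⟩ : (FibCat.fp x x).p.Fiber V)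
      (congrArg ULift.down hq₁) (congrArg ULift.down hq₂)
    let g : (FibCat.overCat T : AlgSt.Cat S).obj := Over.mk k
    let n : σ.obj g ≅ x.obj (Over.mk (k ≫ b)) := isoApp η₀ g
    have hn : IsVert 𝒳.p n.hom := isVert_isoApp η₀ g
    let β : σ.obj g ≅ σ.obj g := i ≪≫ n.symm
    have hβ : IsVert 𝒳.p β.hom := hi.comp hn.inv
    let z : (FibCat.inertia (FibCat.toSelf 𝒳)).obj :=
      ⟨σ.obj g, β, by
        show 𝒳.p.map β.hom = _
        rw [hβ.map_eq]; rfl⟩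
    let ξ : (FibCat.fp σ I).p.Fiber V :=
      ⟨fpMk (F := σ) (G := I) g z (Iso.refl _) (isVert_id _), rfl⟩
    obtain ⟨ψ, hψ⟩ := hεG V ξ
    refine ⟨AlgSt.fibSec εG ξ, ?_, ?_⟩
    · rw [hγ]
      refine Eq.trans ?_ (hε₁ V q)
      let θ : (fibMap Γ ξ).1 ≅ fpMk (F := x) (G := x) (Over.mk (k ≫ a)) (Over.mk (k ≫ b)) i hi :=
        fpObjIso (Iso.refl _) (Iso.refl _) (by
          show x.map (𝟙 _) ≫ i.hom = (𝟙 _ ≫ β.hom ≫ 𝟙 _ ≫ n.hom) ≫ x.map (𝟙 _)
          simp [β]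
          )
      have hθ : IsVert (FibCat.fp x x).p θ.hom :=
        (isVert_fp_iff θ.hom).2 (isVert_id _)
      exact fibSec_eq_of_vert (ε.map (Γ.map ψ ≫ θ.hom ≫ χ))
        (isVert_map ((isVert_map hψ).comp (hθ.comp hχ)))
    · rw [hct]
      refine (fibSec_eq_of_vert (π := BasedFunctor.comp (FibCat.fpFst σ I) (AlgSt.ofOverCat T))
        (π' := BasedFunctor.comp (FibCat.fpFst σ I) (AlgSt.ofOverCat T)) (x := og V _) (y := ξ)
        ((BasedFunctor.comp (FibCat.fpFst σ I) (AlgSt.ofOverCat T)).map ψ) (isVert_map hψ)).trans ?_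
      exact congrArg ULift.up (Category.id_comp k)

end Groth.StkGerb
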