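import Groth.Agent.StkGerb.IsoClasses
import Groth.Agent.AlgStBasic.LocQBase

/-!
# Sections of a sheaf representing the pairs of points of a chart with an isomorphism of their images
-/

set_option autoImplicit false
set_option backward.isDefEq.respectTransparency false
set_option backward.isDefEq.respectTransparency.types false

universe u

open CategoryTheory AlgebraicGeometry Opposite
open Groth.StkBase Groth.AlgStBasic

namespace Groth.StkGerb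

variable {S : Scheme.{u}} {𝒳 𝒲 : AlgSt.Cat S} {U : Over S} {x : FibCat.overCat U ⥤ᵇ 𝒳}

/-- An inverse of an equivalence with the category of a sheaf, read on sections. -/
theorem exists_inverse_sec {F : AlgSp.Sp S} {e : AlgSt.ofSp F ⥤ᵇ 𝒲} (he : FibCat.IsEquivOver e) :
    ∃ ε : 𝒲 ⥤ᵇ AlgSt.ofSp F,
      (∀ (V : Over S) (q : F.obj.obj (op V)),
        AlgSt.fibSec ε (fibMap e ⟨⟨V, q⟩, rfl⟩ : 𝒲.p.Fiber V) = q) ∧
      ∀ (V : Over S) (o : 𝒲.p.Fiber V),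
        ∃ χ : e.obj ⟨V, AlgSt.fibSec ε o⟩ ⟶ o.1, IsVert 𝒲.p χ := by
  obtain ⟨ε, ⟨α⟩, ⟨β⟩⟩ := he
  refine ⟨ε, fun V q => ?_, fun V o => ?_⟩
  · rw [← fibSec_comp e ε, fibSec_eq_of_iso α]
    exact map_op_id F.obj _ rfl q
  · obtain ⟨i, hi⟩ := exists_hom_of_sec_eq (A := (⟨V, AlgSt.fibSec ε o⟩ : (AlgSt.ofSp F).obj))
      (B := ε.obj o.1) rfl ((ε.w_obj o.1).trans o.2) (map_op_id F.obj _ rfl _)
    exact ⟨e.map i ≫ (isoApp β o.1).hom, (isVert_map hi).comp (isVert_isoApp β o.1)⟩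

/-- The morphism to `U` of an object of the slice in a fibre. -/
abbrev ovHom {V : Over S} (g : (FibCat.overCat U : AlgSt.Cat S).p.Fiber V) : V ⟶ U :=
  eqToHom g.2.symm ≫ g.1.hom

theorem fibSec_ofOverCat {V : Over S} (g : (FibCat.overCat U : AlgSt.Cat S).p.Fiber V) :
    AlgSt.fibSec (AlgSt.ofOverCat U) g = ⟨ovHom g⟩ := rfl

theorem exists_iso_mk {V : Over S} (g : (FibCat.overCat U : AlgSt.Cat S).p.Fiber V) {k : V ⟶ U}
    (h : ovHom g = k) :
    ∃ ω : g.1 ≅ Over.mk k, IsVert (FibCat.overCat U).p ω.hom := by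
  obtain ⟨⟨l, ⟨⟨⟩⟩, g⟩, hg⟩ := g
  change l = V at hg
  subst hg
  change 𝟙 _ ≫ g = k at h
  rw [Category.id_comp] at h
  subst h
  exact ⟨Iso.refl _, isVert_id _⟩

/-- The first morphism of a pair. -/
abbrev pairFst {V : Over S} (o : (FibCat.fp x x).p.Fiber V) : V ⟶ U :=
  ovHom (fibMap (FibCat.fpFst x x) o)

/-- The second morphism of a pair. -/
abbrev pairSnd {V : Over S} (o : (FibCat.fp x x).p.Fiber V) : V ⟶ U :=
  ovHom (fibMap (FibCat.fpSnd x x) o)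

/-- A pair with given morphisms is the pair of them with a vertical isomorphism of images. -/
theorem exists_pair_iso {V : Over S} (o : (FibCat.fp x x).p.Fiber V) {k₁ k₂ : V ⟶ U}
    (h₁ : pairFst o = k₁) (h₂ : pairSnd o = k₂) :
    ∃ (i : x.obj (Over.mk k₁) ≅ x.obj (Over.mk k₂)) (hi : IsVert 𝒳.p i.hom)
      (χ : fpMk (F := x) (G := x) (Over.mk k₁) (Over.mk k₂) i hi ⟶ o.1),
        IsVert (FibCat.fp x x).p χ := by
  obtain ⟨ω₁, hω₁⟩ := exists_iso_mk (fibMap (FibCat.fpFst x x) o) h₁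
  obtain ⟨ω₂, hω₂⟩ := exists_iso_mk (fibMap (FibCat.fpSnd x x) o) h₂
  let j : x.obj o.1.obj.fst ≅ x.obj o.1.obj.snd := o.1.obj.iso
  let i : x.obj (Over.mk k₁) ≅ x.obj (Over.mk k₂) :=
    (x.toFunctor.mapIso ω₁).symm ≪≫ j ≪≫ x.toFunctor.mapIso ω₂
  have hi : IsVert 𝒳.p i.hom :=
    (isVert_map hω₁.inv).comp ((fp_isVert o.1).comp (isVert_map hω₂))
  refine ⟨i, hi, (fpObjIso (x := fpMk (F := x) (G := x) (Over.mk k₁) (Over.mk k₂) i hi) (y := o.1)
    ω₁.symm ω₂.symm ?_).hom, hω₁.inv⟩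
  show x.map ω₁.inv ≫ j.hom = (x.map ω₁.inv ≫ j.hom ≫ x.map ω₂.hom) ≫ x.map ω₂.inv
  simp [← Functor.map_comp]

theorem isVert_mk_iso {V : Over S} {k₁ k₂ : V ⟶ U} (h : k₁ = k₂) :
    ∃ ω : (Over.mk k₁ : (FibCat.overCat U : AlgSt.Cat S).obj) ≅ Over.mk k₂,
      IsVert (FibCat.overCat U).p ω.hom := by
  subst h
  exact ⟨Iso.refl _, isVert_id _⟩

variable {F : AlgSp.Sp S}

/-- The first map of a sheaf representing the pairs. -/
noncomputable abbrev pairMapFst (e : AlgSt.ofSp F ⥤ᵇ FibCat.fp x x) : F ⟶ (AlgSp.yon S).obj U :=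
  mapOf (BasedFunctor.comp (BasedFunctor.comp e (FibCat.fpFst x x)) (AlgSt.ofOverCat U))

/-- The second map of a sheaf representing the pairs. -/
noncomputable abbrev pairMapSnd (e : AlgSt.ofSp F ⥤ᵇ FibCat.fp x x) : F ⟶ (AlgSp.yon S).obj U :=
  mapOf (BasedFunctor.comp (BasedFunctor.comp e (FibCat.fpSnd x x)) (AlgSt.ofOverCat U))

theorem pairMapFst_app (e : AlgSt.ofSp F ⥤ᵇ FibCat.fp x x) {V : Over S} (q : F.obj.obj (op V)) :
    (pairMapFst e).hom.app (op V) q = ⟨pairFst (fibMap e ⟨⟨V, q⟩, rfl⟩)⟩ := rfl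

theorem pairMapSnd_app (e : AlgSt.ofSp F ⥤ᵇ FibCat.fp x x) {V : Over S} (q : F.obj.obj (op V)) :
    (pairMapSnd e).hom.app (op V) q = ⟨pairSnd (fibMap e ⟨⟨V, q⟩, rfl⟩)⟩ := rfl

theorem pairFst_eq_of_vert {V : Over S} {o o' : (FibCat.fp x x).p.Fiber V} (χ : o.1 ⟶ o'.1)
    (hχ : IsVert (FibCat.fp x x).p χ) : pairFst o = pairFst o' :=
  congrArg ULift.down (fibSec_eq_of_vert (π := BasedFunctor.comp (FibCat.fpFst x x) (AlgSt.ofOverCat U))
    (π' := BasedFunctor.comp (FibCat.fpFst x x) (AlgSt.ofOverCat U)) (x := o) (y := o')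
    ((BasedFunctor.comp (FibCat.fpFst x x) (AlgSt.ofOverCat U)).map χ) (isVert_map hχ))

theorem pairSnd_eq_of_vert {V : Over S} {o o' : (FibCat.fp x x).p.Fiber V} (χ : o.1 ⟶ o'.1)
    (hχ : IsVert (FibCat.fp x x).p χ) : pairSnd o = pairSnd o' :=
  congrArg ULift.down (fibSec_eq_of_vert (π := BasedFunctor.comp (FibCat.fpSnd x x) (AlgSt.ofOverCat U))
    (π' := BasedFunctor.comp (FibCat.fpSnd x x) (AlgSt.ofOverCat U)) (x := o) (y := o')
    ((BasedFunctor.comp (FibCat.fpSnd x x) (AlgSt.ofOverCat U)).map χ) (isVert_map hχ))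

/-- Isomorphic images give a section of the sheaf representing the pairs. -/
theorem exists_sec_of_iso {e : AlgSt.ofSp F ⥤ᵇ FibCat.fp x x} (he : FibCat.IsEquivOver e)
    {V : Over S} {k₁ k₂ : V ⟶ U} (i : x.obj (Over.mk k₁) ≅ x.obj (Over.mk k₂))
    (hi : IsVert 𝒳.p i.hom) :
    ∃ q : F.obj.obj (op V), (pairMapFst e).hom.app (op V) q = ⟨k₁⟩ ∧
      (pairMapSnd e).hom.app (op V) q = ⟨k₂⟩ := by
  obtain ⟨ε, -, hε⟩ := exists_inverse_sec he
  let o : (FibCat.fp x x).p.Fiber V := ⟨fpMk (F := x) (G := x) (Over.mk k₁) (Over.mk k₂) i hi, rfl⟩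
  obtain ⟨χ, hχ⟩ := hε V o
  refine ⟨AlgSt.fibSec ε o, ?_, ?_⟩
  · rw [pairMapFst_app, pairFst_eq_of_vert (o' := o) χ hχ]
    exact congrArg ULift.up (Category.id_comp k₁)
  · rw [pairMapSnd_app, pairSnd_eq_of_vert (o' := o) χ hχ]
    exact congrArg ULift.up (Category.id_comp k₂)

end Groth.StkGerb
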