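import Groth.Agent.StkGerb.IsoClasses

/-!
# The sheafified presheaf of isomorphism classes of a stack

If two objects with the same class in the sheafification are locally isomorphic, so the stack is a gerbe
over the category of that sheaf.
-/

set_option autoImplicit false
set_option backward.isDefEq.respectTransparency false
set_option backward.isDefEq.respectTransparency.types false

universe u

open CategoryTheory AlgebraicGeometry Opposite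
open Groth.StkBase Groth.AlgStBasic

namespace Groth.StkGerb

variable {S : Scheme.{u}} (𝒳 : AlgSt.Cat S) [FibCat.IsFibGrpd 𝒳.p]

/-- The sheafified presheaf of isomorphism classes. -/
noncomputable def isoClSheaf : AlgSp.Sp S :=
  (presheafToSheaf (AlgSp.J S) (Type (u + 1))).obj (Gerb.isoClPsh 𝒳)

/-- The class of an object in the sheafification. -/
noncomputable def isoClUnit : Gerb.isoClPsh 𝒳 ⟶ (isoClSheaf 𝒳).obj :=
  toSheafify (AlgSp.J S) (Gerb.isoClPsh 𝒳)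

theorem isoClUnit_locBij : Presheaf.IsLocallyInjective (AlgSp.J S) (isoClUnit 𝒳) ∧
    Presheaf.IsLocallySurjective (AlgSp.J S) (isoClUnit 𝒳) :=
  ⟨inferInstanceAs (Presheaf.IsLocallyInjective (AlgSp.J S) (toSheafify (AlgSp.J S) (Gerb.isoClPsh 𝒳))),
    inferInstanceAs (Presheaf.IsLocallySurjective (AlgSp.J S) (toSheafify (AlgSp.J S) (Gerb.isoClPsh 𝒳)))⟩

theorem map_isoClUnit {U V : Over S} (f : V ⟶ U) (a : 𝒳.p.Fiber U) (b : 𝒳.p.Fiber V) (ψ : b.1 ⟶ a.1)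
    (h : 𝒳.p.map ψ = eqToHom b.2 ≫ f ≫ eqToHom a.2.symm) :
    (isoClSheaf 𝒳).obj.map f.op ((isoClUnit 𝒳).app (op U) (Quot.mk _ a)) =
      (isoClUnit 𝒳).app (op V) (Quot.mk _ b) := by
  rw [← NatTrans.naturality_apply]
  exact congrArg _ (isoCl_eq_of_hom f a b ψ h).symm

/-- The functor to the sheafified isomorphism classes. -/
noncomputable def isoClMap : 𝒳 ⥤ᵇ AlgSt.ofSp (isoClSheaf 𝒳) where
  toFunctor :=
    { obj := fun a => ⟨𝒳.p.obj a, (isoClUnit 𝒳).app (op _) (Quot.mk _ ⟨a, rfl⟩)⟩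
      map := fun {a b} ψ => ⟨𝒳.p.map ψ, map_isoClUnit 𝒳 (𝒳.p.map ψ) ⟨b, rfl⟩ ⟨a, rfl⟩ ψ (by simp)⟩
      map_id := fun a => Stk.EltObj.hom_ext (𝒳.p.map_id a)
      map_comp := fun f g => Stk.EltObj.hom_ext (𝒳.p.map_comp f g) }
  w := rfl

theorem exists_hom_of_isoRel {V : Over S} {a b : 𝒳.p.Fiber V}
    (h : Quot.mk (Gerb.IsoRel 𝒳 V) a = Quot.mk (Gerb.IsoRel 𝒳 V) b) :
    ∃ χ : a.1 ⟶ b.1, IsVert 𝒳.p χ := by
  have := Quot.eqvGen_exact h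
  induction this with
  | rel a b hab =>
      obtain ⟨φ⟩ := hab
      exact ⟨φ.1, isVert_of_isHomLift φ.2⟩
  | refl a => exact ⟨𝟙 _, isVert_id _⟩
  | symm a b _ ih =>
      obtain ⟨χ, hχ⟩ := ih (Quot.eqvGen_sound ‹_›)
      have := hχ.isIso (inferInstance : FibCat.IsFibGrpd 𝒳.p)
      exact ⟨inv χ, IsVert.inv (φ := asIso χ) hχ⟩
  | trans a b c h₁ h₂ ih₁ ih₂ =>
      obtain ⟨χ₁, h₁'⟩ := ih₁ (Quot.eqvGen_sound h₁)
      obtain ⟨χ₂, h₂'⟩ := ih₂ (Quot.eqvGen_sound h₂)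
      exact ⟨χ₁ ≫ χ₂, h₁'.comp h₂'⟩

/-- The stack is a gerbe over the sheafified isomorphism classes. -/
theorem isGerbeOver_isoClMap : Gerb.IsGerbeOver (AlgSp.J S) (isoClMap 𝒳) := by
  obtain ⟨hinj, hsurj⟩ := isoClUnit_locBij 𝒳
  refine ⟨fun y => ⟨_, Presheaf.imageSieve_mem (AlgSp.J S) (isoClUnit 𝒳) (U := op y.base) y.sec,
    fun V f hf => ?_⟩, fun x x' b hb => ?_⟩
  · obtain ⟨t, ht⟩ := hf
    obtain ⟨⟨a, ha⟩, rfl⟩ := Quot.exists_rep t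
    refine ⟨a, ⟨eqToHom ha ≫ f, ?_⟩, IsHomLift.of_fac' _ _ _ ha rfl ?_⟩
    · refine (map_op_comp _ _ _ y.sec).symm.trans ((congrArg _ ht.symm).trans ?_)
      exact map_isoClUnit 𝒳 _ ⟨a, ha⟩ ⟨a, rfl⟩ (𝟙 a) (by simp)
    · show eqToHom ha ≫ f = eqToHom ha ≫ f ≫ 𝟙 _
      rw [Category.comp_id]
  · obtain ⟨h₁, h₂, e⟩ := (isHomLift_iff_eqToHom _ _).1 hb
    have he : 𝒳.p.obj x' = 𝒳.p.obj x := h₂
    let a : 𝒳.p.Fiber (𝒳.p.obj x) := ⟨x, rfl⟩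
    let c : 𝒳.p.Fiber (𝒳.p.obj x) := ⟨x', he⟩
    have hc : (isoClUnit 𝒳).app (op _) (Quot.mk _ a) = (isoClUnit 𝒳).app (op _) (Quot.mk _ c) := by
      refine b.map_sec.symm.trans ?_
      refine map_isoClUnit 𝒳 _ ⟨x', rfl⟩ c (𝟙 x') ?_
      have : b.hom = _ := e
      simp only [this, Category.id_comp, eqToHom_trans, Category.assoc]; exact 𝒳.p.map_id x'
    refine ⟨_, Presheaf.equalizerSieve_mem (AlgSp.J S) (isoClUnit 𝒳) _ _ hc, fun V f hf => ?_⟩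
    obtain ⟨χ, hχ⟩ := exists_hom_of_isoRel 𝒳 (show Quot.mk (Gerb.IsoRel 𝒳 V) (Gerb.pullFib 𝒳 f a) =
      Quot.mk (Gerb.IsoRel 𝒳 V) (Gerb.pullFib 𝒳 f c) from hf)
    refine ⟨(Gerb.pullFib 𝒳 f a).1, Gerb.pullHom 𝒳 x _, χ ≫ Gerb.pullHom 𝒳 x' _, ?_, ?_, ?_⟩
    · exact IsHomLift.of_fac' _ _ _ (Gerb.pullFib 𝒳 f a).2 rfl (by simp [Gerb.pullHom_map])
    · exact IsHomLift.of_fac' _ _ _ (Gerb.pullFib 𝒳 f a).2 he
        (by simp [Gerb.pullHom_map, hχ.map_eq])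
    · apply Stk.EltObj.hom_ext
      show 𝒳.p.map (Gerb.pullHom 𝒳 x _) ≫ b.hom = 𝒳.p.map (χ ≫ Gerb.pullHom 𝒳 x' _)
      have : b.hom = _ := e
      simp [this, Gerb.pullHom_map, hχ.map_eq]

end Groth.StkGerb
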