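import Groth.Agent.StkGerb.Rigid.Generic
import Groth.Agent.StkRed.Closed
import Groth.Agent.StkGerb.Section.GerbeCover
import Groth.Agent.AlgStCover.ImmImage
import Groth.Agent.Misc10.IsoNat.QC
import Groth.Agent.AlgSp2.FppfProps

/-!
# Gerbes in the closed subsets of a stack with quasi-compact inertia
-/

set_option autoImplicit false
set_option backward.isDefEq.respectTransparency false
set_option backward.isDefEq.respectTransparency.types false

universe u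

open CategoryTheory CategoryTheory.Limits AlgebraicGeometry Opposite
open Groth.StkBase Groth.AlgStBasic

noncomputable section

namespace Groth.StkGerb

variable {S : Scheme.{u}} {𝒳 𝒴 : AlgSt.Cat S}

/-- A property of the pulled back inertia passes to a functor factoring through the pulled back one. -/
theorem repWith_fpFst_of_factor {P : MorphismProperty (AlgSp.Sp S)} {𝒲 ℐ : AlgSt.Cat S}
    (j : 𝒲 ⥤ᵇ 𝒴) (i : 𝒴 ⥤ᵇ 𝒳) (k : 𝒲 ⥤ᵇ 𝒳) (α : BasedFunctor.comp j i ≅ k) (f : ℐ ⥤ᵇ 𝒳)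
    (h : AlgSt.RepByAlgSpWith P (FibCat.fpFst i f)) : AlgSt.RepByAlgSpWith P (FibCat.fpFst k f) :=
  fun W y => RepFst.of_equiv (isEquivOver_fpUnpaste y k f) (Iso.refl _)
    (RepFst.of_equiv (isEquivOver_fpCongr (whiskerLeftIso y α) (Iso.refl f)) (Iso.refl _)
      (RepFst.of_equiv (isEquivOver_fpPaste (BasedFunctor.comp y j) i f) (Iso.refl _)
        (h W (BasedFunctor.comp y j))))

/-- An open substack inside an open gerbe is a gerbe. -/
theorem isAlgGerbe_inPts_of_subset (h𝒳 : AlgSt.IsAlgStack Scheme.fppfPrecoverage 𝒳)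
    {Q₀ : 𝒳.obj → Prop} (hQ₀ : AlgSt.IsOpenSubstack 𝒳 Q₀ Scheme.fppfPrecoverage)
    (hg : Gerb.IsAlgGerbe Scheme.fppfPrecoverage (AlgSt.fullSub 𝒳 Q₀))
    {K : Set (AlgSt.Points 𝒳)} (hK : IsOpen K)
    (hKQ : K ⊆ Set.range (AlgSt.Points.map (AlgSt.subIncl 𝒳 Q₀))) :
    Gerb.IsAlgGerbe Scheme.fppfPrecoverage (AlgSt.fullSub 𝒳 (inPts K)) := by
  have := hQ₀.1
  have hK' := isOpenSubstack_inPts h𝒳 hK
  have hle : ∀ y, inPts K y → Q₀ y :=
    (isOpenSubstack_le_iff h𝒳 hK' hQ₀).2 (by rw [range_subIncl_inPts_eq]; exact hKQ)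
  let j : AlgSt.fullSub 𝒳 (inPts K) ⥤ᵇ AlgSt.fullSub 𝒳 Q₀ :=
    { toFunctor := ObjectProperty.lift _ (AlgSt.subIncl 𝒳 (inPts K)).toFunctor fun z => hle _ z.property
      w := rfl }
  obtain ⟨E₀, hE₀, eE₀⟩ := exists_inertia_fullSub_equiv Q₀
  obtain ⟨E, hE, eE⟩ := exists_inertia_fullSub_equiv (inPts K)
  have hfl := isFL_inertia_of_isAlgGerbe hQ₀.2.1 hg
  obtain ⟨k₁, k₂⟩ := hfl.repWith (isAlgStack_inertia hQ₀.2.1) hQ₀.2.1 (repByAlgSp1_inertiaToBase hQ₀.2.1)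
  rw [← eE₀] at k₁ k₂
  have k₁' := (repWith_precomp_equiv hE₀ _).1 k₁
  have k₂' := (repWith_precomp_equiv hE₀ _).1 k₂
  refine isAlgGerbe_of_isFL_inertia hK'.2.1 ?_
  rw [← eE]
  exact isFL_of_repWith (isAlgStack_inertia hK'.2.1) hK'.2.1
    ((repWith_precomp_equiv hE _).2
      (repWith_fpFst_of_factor j (AlgSt.subIncl 𝒳 Q₀) _ (Iso.refl _) _ k₁'))
    ((repWith_precomp_equiv hE _).2
      (repWith_fpFst_of_factor j (AlgSt.subIncl 𝒳 Q₀) _ (Iso.refl _) _ k₂'))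

theorem isAlgGerbe_of_isEquivOver (hX : AlgSt.IsAlgStack Scheme.fppfPrecoverage 𝒳)
    (hY : AlgSt.IsAlgStack Scheme.fppfPrecoverage 𝒴) {e : 𝒳 ⥤ᵇ 𝒴} (he : FibCat.IsEquivOver e)
    (h : Gerb.IsAlgGerbe Scheme.fppfPrecoverage 𝒳) : Gerb.IsAlgGerbe Scheme.fppfPrecoverage 𝒴 := by
  obtain ⟨X, π, hπ⟩ := h
  obtain ⟨e', he', -⟩ := isEquivOver_symm he
  exact ⟨X, BasedFunctor.comp e' π, isGerbeOver_comp hY.isStack.1 hX.isStack.1 e' π
    (isGerbeOver_of_isEquivOver hX.isStack.1 he') hπ⟩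

/-- The strata available in a closed set of points. -/
theorem exists_strata_in_closed (h𝒳 : AlgSt.IsAlgStack Scheme.fppfPrecoverage 𝒳)
    (hI : AlgSt.IsQuasiCompactMor Scheme.fppfPrecoverage (FibCat.inertiaToBase (FibCat.toSelf 𝒳)))
    (C : Set (AlgSt.Points 𝒳)) (hC : IsClosed C) :
    (∃ (Q : 𝒳.obj → Prop) (O : Set (AlgSt.Points 𝒳)), IsOpen O ∧
      AlgSt.IsLocClosedSubstack 𝒳 Q Scheme.fppfPrecoverage ∧
      AlgSt.SmoothLocally (fun X => IsReduced X) (AlgSt.fullSub 𝒳 Q) ∧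
      Gerb.IsAlgGerbe Scheme.fppfPrecoverage (AlgSt.fullSub 𝒳 Q) ∧
      Set.range (AlgSt.Points.map (AlgSt.subIncl 𝒳 Q)) = O ∩ C ∧ C ⊆ closure (O ∩ C)) ∧
    ∃ (Q : 𝒳.obj → Prop) (O : Set (AlgSt.Points 𝒳)), IsOpen O ∧
      AlgSt.IsLocClosedSubstack 𝒳 Q Scheme.fppfPrecoverage ∧
      AlgSt.SmoothLocally (fun X => IsReduced X) (AlgSt.fullSub 𝒳 Q) ∧
      Gerb.IsAlgGerbe Scheme.fppfPrecoverage (AlgSt.fullSub 𝒳 Q) ∧
      AlgSt.IsQuasiCompact (AlgSt.fullSub 𝒳 Q) ∧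
      Set.range (AlgSt.Points.map (AlgSt.subIncl 𝒳 Q)) = O ∩ C ∧ (C.Nonempty → (O ∩ C).Nonempty) := by
  have hX : FibCat.IsFibGrpd 𝒳.p := h𝒳.isStack.1
  obtain ⟨Qc, ⟨hiso, hZ, hi⟩, hrange, hred⟩ := Groth.StkRed.exists_reduced_closedSubstack h𝒳 C hC
  have := hiso
  let i := AlgSt.subIncl 𝒳 Qc
  have : i.toFunctor.Full := inferInstanceAs (ObjectProperty.ι _).Full
  have : i.toFunctor.Faithful := inferInstanceAs (ObjectProperty.ι _).Faithful
  have hinj : Function.Injective (AlgSt.Points.map i) := injective_map_of_full_faithful hZ.isStack.1 hX i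
  have hcl : IsClosedMap (AlgSt.Points.map i) := isClosedMap_map_of_charts hZ hX fun T y => by
    obtain ⟨F, e, he⟩ := repWith_repByAlgSp1 hi T y
    exact ⟨⟨F, e, he⟩, Groth.AlgSpBasic.isClosedMap_map_of_repWith (P := @IsClosedImmersion)
      (fun _ _ φ (_ : IsClosedImmersion φ) => φ.isClosedEmbedding.isClosedMap)
      (prop_of_repWith_fp (stableBaseChange_repWith _) hi y F e he)⟩
  have hqc : AlgSt.IsQuasiCompactMor Scheme.fppfPrecoverage
      (FibCat.inertiaToBase (FibCat.toSelf (AlgSt.fullSub 𝒳 Qc))) := by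
    intro 𝒯 h𝒯 hq g
    obtain ⟨E, hE, eE⟩ := exists_inertia_fullSub_equiv Qc
    let I := FibCat.inertiaToBase (FibCat.toSelf 𝒳)
    obtain ⟨M, hM, -⟩ := isEquivOver_symm
      (isEquivOver_comp (isEquivOver_fpPre (isEquivOver_id _) hE g (FibCat.fpFst i I))
        (isEquivOver_fpPaste g i I))
    have h₁ := isAlgStack_fp h𝒳.isStack h𝒳.diag h𝒯 (isAlgStack_inertia h𝒳) (BasedFunctor.comp g i) I
    have h₂ := isAlgStack_fp hZ.isStack hZ.diag h𝒯 (isAlgStack_inertia hZ) g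
      (FibCat.inertiaToBase (FibCat.toSelf (AlgSt.fullSub 𝒳 Qc)))
    have hh := hI 𝒯 h𝒯 hq (BasedFunctor.comp g i)
    have hres := isQuasiCompact_of_isEquivOver h₁
      ((isAlgStack_iff_of_isEquivOver _ hM).1 h₁) hM hh
    rw [eE] at hres
    exact hres
  obtain ⟨Q₀, hQ₀, hdense, hgerbe⟩ := exists_dense_gerbe hZ hred hqc
  let T₀ := Set.range (AlgSt.Points.map (AlgSt.subIncl (AlgSt.fullSub 𝒳 Qc) Q₀))
  have hT₀ : IsOpen T₀ := (isOpenMap_map_of_isOpenImm hQ₀.2.1 hZ.isStack.1 hQ₀.2.2).isOpen_range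
  have make : ∀ K : Set (AlgSt.Points (AlgSt.fullSub 𝒳 Qc)), IsOpen K → K ⊆ T₀ →
      ∃ (Q : 𝒳.obj → Prop) (O : Set (AlgSt.Points 𝒳)), IsOpen O ∧
      AlgSt.IsLocClosedSubstack 𝒳 Q Scheme.fppfPrecoverage ∧
      AlgSt.SmoothLocally (fun X => IsReduced X) (AlgSt.fullSub 𝒳 Q) ∧
      Gerb.IsAlgGerbe Scheme.fppfPrecoverage (AlgSt.fullSub 𝒳 Q) ∧
      (IsCompact K → AlgSt.IsQuasiCompact (AlgSt.fullSub 𝒳 Q)) ∧
      Set.range (AlgSt.Points.map (AlgSt.subIncl 𝒳 Q)) = O ∩ C ∧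
      AlgSt.Points.map i '' K = O ∩ C := by
    intro K hK hKT
    have hKs := isOpenSubstack_inPts hZ hK
    let j := AlgSt.subIncl (AlgSt.fullSub 𝒳 Qc) (inPts K)
    let k := BasedFunctor.comp j i
    have hk : AlgSt.IsImm k := by
      refine repWith_repWith_comp (R := @IsImmersion) ?_ ?_
      · exact repWith_mono (fun _ _ _ _ _ h => Groth.AlgSpBasic.repWith_mono
          (fun _ _ g (_ : IsOpenImmersion g) => (inferInstance : IsImmersion g)) h) hKs.2.2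
      · exact repWith_mono (fun _ _ _ _ _ h => Groth.AlgSpBasic.repWith_mono
          (fun _ _ g (_ : IsClosedImmersion g) => (inferInstance : IsImmersion g)) h) hi
    have hm := isMono_of_isImm hk
    have hE := Groth.AlgStCover.isEquivOver_toImage k hKs.2.1.isStack.1 hX hm
    have hA := Groth.AlgStCover.isAlgStack_image k hKs.2.1.isStack.1 h𝒳 hm
    have hQ : AlgSt.IsLocClosedSubstack 𝒳 (Groth.AlgStCover.imPred k) Scheme.fppfPrecoverage :=
      ⟨inferInstance, hA, Groth.AlgStCover.repWith_subIncl k hKs.2.1.isStack.1 hX hm hk⟩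
    have hO : IsOpen (AlgSt.Points.map i '' Kᶜ)ᶜ := (hcl _ hK.isClosed_compl).isOpen_compl
    have himg : AlgSt.Points.map i '' K = (AlgSt.Points.map i '' Kᶜ)ᶜ ∩ C := by
      ext p
      constructor
      · rintro ⟨q, hq, rfl⟩
        exact ⟨fun ⟨q', hq', e⟩ => hq' (hinj e ▸ hq), hrange ▸ ⟨q, rfl⟩⟩
      · rintro ⟨hp, hpC⟩
        rw [← hrange] at hpC
        obtain ⟨q, rfl⟩ := hpC
        exact ⟨q, by_contra fun h => hp ⟨q, h, rfl⟩, rfl⟩
    have hr : Set.range (AlgSt.Points.map (AlgSt.subIncl 𝒳 (Groth.AlgStCover.imPred k))) =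
        AlgSt.Points.map i '' K := by
      have e1 : AlgSt.Points.map k = AlgSt.Points.map (AlgSt.subIncl 𝒳 (Groth.AlgStCover.imPred k)) ∘
          AlgSt.Points.map (Groth.AlgStCover.toImage k) :=
        funext fun p => map_comp (Groth.AlgStCover.toImage k) (AlgSt.subIncl 𝒳 (Groth.AlgStCover.imPred k)) p
      have e2 : Set.range (AlgSt.Points.map k) = AlgSt.Points.map i '' K := by
        exact ((congrArg Set.range (funext fun p => map_comp j i p)).trans (Set.range_comp _ _)).trans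
          (congrArg (AlgSt.Points.map i '' ·) (range_subIncl_inPts_eq K))
      rw [← e2, e1, Set.range_comp, (bijective_map_of_isEquivOver hE).2.range_eq, Set.image_univ]
    refine ⟨_, _, hO, hQ, Groth.ResGerbe.smoothLocally_of_isEquivOver hE ?_,
      isAlgGerbe_of_isEquivOver hKs.2.1 hA hE (isAlgGerbe_inPts_of_subset hZ hQ₀ hgerbe hK hKT),
      fun hKc => ?_, hr.trans himg, himg⟩
    · intro W x hx
      refine hred W (BasedFunctor.comp x j) ?_
      exact repWith_comp' (isFibGrpd_overCat W) hKs.2.1.isStack.1 stableBaseChange_locP stableComp_locP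
        descendsAlongAtlas_locP hx
        (repWith_mono (fun _ _ _ _ _ h => Groth.AlgSpBasic.locP_of_repWith (Groth.AlgSpBasic.repWith_mono
          (fun _ _ g (_ : IsOpenImmersion g) => (inferInstance : Smooth g)) h)) hKs.2.2)
    · have hemb := Groth.Misc10.IsoNat.isEmbedding_map_of_isOpenImm hKs.2.1 hZ hKs.2.2
      have : CompactSpace (AlgSt.Points (AlgSt.fullSub (AlgSt.fullSub 𝒳 Qc) (inPts K))) := by
        rw [← isCompact_univ_iff, hemb.isEmbedding.isCompact_iff, Set.image_univ, range_subIncl_inPts_eq]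
        exact hKc
      exact isQuasiCompact_of_isEquivOver hKs.2.1 hA hE (isQuasiCompact_of_compactSpace hKs.2.1)
  refine ⟨?_, ?_⟩
  · obtain ⟨Q, O, hO, h₁, h₂, h₃, -, h₄, h₅⟩ := make T₀ hT₀ subset_rfl
    refine ⟨Q, O, hO, h₁, h₂, h₃, h₄, ?_⟩
    rw [← h₅]
    intro p hp
    rw [← hrange] at hp
    obtain ⟨q, rfl⟩ := hp
    exact (continuous_map h𝒳 i).range_subset_closure_image_dense hdense ⟨q, rfl⟩
  · by_cases hne : C.Nonempty
    · obtain ⟨p, hp⟩ := hne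
      rw [← hrange] at hp
      obtain ⟨q, -⟩ := hp
      have hd : Dense T₀ := hdense
      obtain ⟨q₀, -, hq₀⟩ := hd.inter_open_nonempty Set.univ isOpen_univ ⟨q, trivial⟩
      obtain ⟨K, hK, hKc, hqK, hKT⟩ := exists_isOpen_isCompact_nhd hZ q₀ hT₀ hq₀
      obtain ⟨Q, O, hO, h₁, h₂, h₃, h₄, h₅, h₆⟩ := make K hK hKT
      exact ⟨Q, O, hO, h₁, h₂, h₃, h₄ hKc, h₅, fun _ => h₆ ▸ ⟨_, q₀, hqK, rfl⟩⟩
    · obtain ⟨Q, O, hO, h₁, h₂, h₃, h₄, h₅, -⟩ := make ∅ isOpen_empty (Set.empty_subset _)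
      exact ⟨Q, O, hO, h₁, h₂, h₃, h₄ isCompact_empty, h₅, fun h => absurd h hne⟩

end Groth.StkGerb
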